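import Groth.Prelude.Def_W4c1chowmix47Eta
import Mathlib.FieldTheory.IsAlgClosed.AlgebraicClosure
import Mathlib.FieldTheory.Perfect
import Mathlib.RingTheory.Valuation.LocalSubring
import Mathlib.RingTheory.IntegralClosure.IntegrallyClosed

/-!
# Basic lemmas on the pointwise construction `EtaPt`

`ev η g`: evaluation of `η.N A` at a field valued point `g : A →+* L`.
-/

universe u

namespace Groth.EtaPt16

open EtaPt

variable (η : FieldEndo.{u})

section Fields

variable {K L : Type u} [Field K] [Field L]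

lemma map_eta_apply (f : K →+* L) (y : K) : η.map f (η.eta K y) = η.eta L (f y) :=
  RingHom.congr_fun (η.eta_natural f) y

lemma pow_expChar_inj (ψ : K →+* L) {x y : L} (n : ℕ)
    (h : x ^ ringExpChar K ^ n = y ^ ringExpChar K ^ n) : x = y := by
  haveI : ExpChar L (ringExpChar K) := expChar_of_injective_ringHom ψ.injective _
  exact iterateFrobenius_inj L (ringExpChar K) n (by simpa [iterateFrobenius_def] using h)

/-- two maps out of `F K` agreeing on `K` are equal -/
lemma hom_ext_eta {θ θ' : η.obj K →+* L}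
    (h : θ.comp (η.eta K) = θ'.comp (η.eta K)) : θ = θ' := by
  ext x
  obtain ⟨n, y, hy⟩ := η.exists_pow_mem_range_eta K x
  refine pow_expChar_inj (θ.comp (η.eta K)) n ?_
  rw [← map_pow, ← map_pow, ← hy]
  exact RingHom.congr_fun h y

lemma map_eta_eq (K : Type u) [Field K] : η.map (η.eta K) = η.eta (η.obj K) :=
  hom_ext_eta η (η.eta_natural (η.eta K))

lemma bijective_eta_obj (K : Type u) [Field K] : Function.Bijective (η.eta (η.obj K)) := by
  rw [← map_eta_eq]; exact η.bijective_map_eta K

lemma bijective_map_of_bijective (f : K →+* L) (hf : Function.Bijective f) :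
    Function.Bijective (η.map f) := by
  let e := RingEquiv.ofBijective f hf
  have h1 : (η.map e.symm.toRingHom).comp (η.map f) = RingHom.id _ := by
    rw [← η.map_comp, ← η.map_id]
    congr 1
    ext x; exact e.symm_apply_apply x
  have h2 : (η.map f).comp (η.map e.symm.toRingHom) = RingHom.id _ := by
    rw [← η.map_comp, ← η.map_id]
    congr 1
    ext x; exact e.apply_symm_apply x
  exact ⟨Function.LeftInverse.injective (g := η.map e.symm.toRingHom) (RingHom.congr_fun h1),
    Function.RightInverse.surjective (g := η.map e.symm.toRingHom) (RingHom.congr_fun h2)⟩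

lemma bijective_eta_of_bijective (f : K →+* L) (hf : Function.Bijective f)
    (hK : Function.Bijective (η.eta K)) : Function.Bijective (η.eta L) := by
  refine ⟨(η.eta L).injective, fun y => ?_⟩
  obtain ⟨z, rfl⟩ := (bijective_map_of_bijective η f hf).2 y
  obtain ⟨w, rfl⟩ := hK.2 z
  exact ⟨f w, (map_eta_apply η f w).symm⟩

lemma bijective_eta_of_perfectField (K : Type u) [Field K] [PerfectField K] :
    Function.Bijective (η.eta K) := by
  refine ⟨(η.eta K).injective, fun x => ?_⟩
  obtain ⟨n, y, hy⟩ := η.exists_pow_mem_range_eta K x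
  haveI : PerfectRing K (ringExpChar K) := PerfectField.toPerfectRing _
  obtain ⟨z, rfl⟩ := (bijective_iterateFrobenius K (ringExpChar K) n).2 y
  refine ⟨z, pow_expChar_inj (η.eta K) n ?_⟩
  rw [← map_pow, ← hy, iterateFrobenius_def]

end Fields

section Ev

variable {A B : Type u} [CommRing A] [CommRing B] {K L : Type u} [Field K] [Field L]

/-- the point of a field valued map -/
def kerPt (g : A →+* L) : PrimeSpectrum A := ⟨RingHom.ker g, RingHom.ker_isPrime g⟩

/-- residue field map of a point -/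
noncomputable abbrev res (p : PrimeSpectrum A) : A →+* p.asIdeal.ResidueField := algebraMap A _

lemma ker_res (p : PrimeSpectrum A) : RingHom.ker (res p) = p.asIdeal :=
  Ideal.ker_algebraMap_residueField _

lemma exists_lift (p : PrimeSpectrum A) (g : A →+* L) (h : RingHom.ker g = p.asIdeal) :
    ∃ φ : p.asIdeal.ResidueField →+* L, φ.comp (res p) = g := by
  have hu : p.asIdeal.primeCompl ≤ (IsUnit.submonoid L).comap g := fun a ha =>
    isUnit_iff_ne_zero.mpr fun h0 => ha (h ▸ (h0 : a ∈ RingHom.ker g))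
  exact ⟨Ideal.ResidueField.lift p.asIdeal g h.ge hu,
    RingHom.ext fun a => Ideal.ResidueField.lift_algebraMap _ g h.ge hu a⟩

/-- evaluation at a field valued point -/
noncomputable def ev (g : A →+* L) : η.N A →+* η.obj L :=
  (η.map (exists_lift (kerPt g) g rfl).choose).comp (Pi.evalRingHom _ (kerPt g))

lemma ev_eq (g : A →+* L) (p : PrimeSpectrum A) (φ : p.asIdeal.ResidueField →+* L)
    (h : φ.comp (res p) = g) (x : η.N A) : ev η g x = η.map φ (x p) := by
  have hp : p = kerPt g := by
    ext1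
    show p.asIdeal = RingHom.ker g
    rw [← h, RingHom.ker_comp_of_injective _ φ.injective, ker_res]
  subst hp
  have : (exists_lift (kerPt g) g rfl).choose = φ :=
    Ideal.ResidueField.ringHom_ext ((exists_lift (kerPt g) g rfl).choose_spec.trans h.symm)
  simp [ev, this]

lemma ev_res (p : PrimeSpectrum A) (x : η.N A) : ev η (res p) x = x p := by
  rw [ev_eq η (res p) p (RingHom.id _) rfl, η.map_id]; rfl

lemma ev_t (g : A →+* L) (a : A) : ev η g (η.t A a) = η.eta L (g a) := by
  obtain ⟨φ, hφ⟩ := exists_lift (kerPt g) g rfl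
  rw [ev_eq η g _ φ hφ]
  exact (map_eta_apply η φ _).trans (congrArg _ (RingHom.congr_fun hφ a))

lemma ev_comp (ψ : K →+* L) (g : A →+* K) (x : η.N A) :
    η.map ψ (ev η g x) = ev η (ψ.comp g) x := by
  obtain ⟨φ, hφ⟩ := exists_lift (kerPt g) g rfl
  rw [ev_eq η g _ φ hφ, ev_eq η (ψ.comp g) (kerPt g) (ψ.comp φ) (by rw [RingHom.comp_assoc, hφ]),
    η.map_comp]; rfl

lemma Nmap_apply (f : A →+* B) (x : η.N A) (Q : PrimeSpectrum B) :
    η.Nmap f x Q =
      η.map (Ideal.ResidueField.map (PrimeSpectrum.comap f Q).asIdeal Q.asIdeal f rfl)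
        (x (PrimeSpectrum.comap f Q)) := rfl

lemma ev_Nmap (f : A →+* B) (g : B →+* L) (x : η.N A) :
    ev η g (η.Nmap f x) = ev η (g.comp f) x := by
  obtain ⟨φ, hφ⟩ := exists_lift (kerPt g) g rfl
  rw [ev_eq η g _ φ hφ, Nmap_apply, ev_eq η (g.comp f) (PrimeSpectrum.comap f (kerPt g))
    (φ.comp (Ideal.ResidueField.map _ _ f rfl)) ?_, η.map_comp]
  · rfl
  · ext a
    simp only [RingHom.comp_apply]
    refine (congrArg φ (Ideal.ResidueField.map_algebraMap _ _ f rfl a)).trans ?_
    exact RingHom.congr_fun hφ (f a)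

lemma ev_eq_zero_iff (g : A →+* L) (p : PrimeSpectrum A) (h : RingHom.ker g = p.asIdeal)
    (x : η.N A) : ev η g x = 0 ↔ x p = 0 := by
  obtain ⟨φ, hφ⟩ := exists_lift p g h
  rw [ev_eq η g p φ hφ, map_eq_zero]

lemma Nmap_apply_ev (f : A →+* B) (x : η.N A) (Q : PrimeSpectrum B) :
    η.Nmap f x Q = ev η ((res Q).comp f) x := by
  rw [← ev_res η Q (η.Nmap f x), ev_Nmap]

lemma Nmap_Nmap {C : Type u} [CommRing C] (f : A →+* B) (g : B →+* C) (x : η.N A) :
    η.Nmap g (η.Nmap f x) = η.Nmap (g.comp f) x := by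
  funext Q
  rw [Nmap_apply_ev, Nmap_apply_ev, ev_Nmap, RingHom.comp_assoc]

lemma Nmap_comp {C : Type u} [CommRing C] (f : A →+* B) (g : B →+* C) :
    η.Nmap (g.comp f) = (η.Nmap g).comp (η.Nmap f) :=
  RingHom.ext fun x => (Nmap_Nmap η f g x).symm

lemma Nmap_id (A : Type u) [CommRing A] : η.Nmap (RingHom.id A) = RingHom.id _ := by
  ext x Q
  rw [Nmap_apply_ev]; exact ev_res η Q x

lemma Nmap_equiv_bijective (f : A →+* B) (hf : Function.Bijective f) :
    Function.Bijective (η.Nmap f) := by
  let e := RingEquiv.ofBijective f hf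
  have h1 : e.symm.toRingHom.comp f = RingHom.id A := RingHom.ext e.symm_apply_apply
  have h2 : f.comp e.symm.toRingHom = RingHom.id B := RingHom.ext e.apply_symm_apply
  refine ⟨Function.LeftInverse.injective (g := η.Nmap e.symm.toRingHom) fun x => ?_,
    Function.RightInverse.surjective (g := η.Nmap e.symm.toRingHom) fun x => ?_⟩
  · rw [Nmap_Nmap, h1, Nmap_id]; rfl
  · rw [Nmap_Nmap, h2, Nmap_id]; rfl

lemma t_eq_zero_iff (b : A) : η.t A b = 0 ↔ IsNilpotent b := by
  rw [← mem_nilradical, nilradical_eq_sInf]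
  simp only [Submodule.mem_sInf, Set.mem_ofPred_eq, funext_iff]
  constructor
  · intro h P hP
    have := h ⟨P, hP⟩
    replace this : η.eta _ (res ⟨P, hP⟩ b) = 0 := this
    exact Ideal.algebraMap_residueField_eq_zero.mp ((map_eq_zero _).mp this)
  · intro h p
    show η.eta _ (res p b) = 0
    rw [Ideal.algebraMap_residueField_eq_zero.mpr (h p.asIdeal p.2), map_zero]

lemma t_injective [IsReduced A] : Function.Injective (η.t A) :=
  (injective_iff_map_eq_zero _).mpr fun _ h => isNilpotent_iff_eq_zero.mp ((t_eq_zero_iff η _).mp h)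

/-- `N(f)` is injective when `Spec f` is surjective -/
lemma Nmap_injective (f : A →+* B) (hs : Function.Surjective (PrimeSpectrum.comap f)) :
    Function.Injective (η.Nmap f) := by
  refine (injective_iff_map_eq_zero _).mpr fun x hx => funext fun p => ?_
  obtain ⟨Q, rfl⟩ := hs p
  have := congrFun hx Q
  rw [Nmap_apply] at this
  exact (map_eq_zero _).mp this

lemma Nmap_surjective (f : A →+* B) (hi : Function.Injective (PrimeSpectrum.comap f))
    (h : ∀ Q : PrimeSpectrum B, Function.Surjective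
      (η.map (Ideal.ResidueField.map (PrimeSpectrum.comap f Q).asIdeal Q.asIdeal f rfl))) :
    Function.Surjective (η.Nmap f) := by
  intro y
  have : ∀ p : PrimeSpectrum A, ∃ z : η.obj p.asIdeal.ResidueField,
      ∀ (Q : PrimeSpectrum B) (hQ : PrimeSpectrum.comap f Q = p),
        η.map (Ideal.ResidueField.map p.asIdeal Q.asIdeal f (by rw [← hQ]; rfl)) z = y Q := by
    intro p
    by_cases hp : ∃ Q, PrimeSpectrum.comap f Q = p
    · obtain ⟨Q₀, rfl⟩ := hp
      obtain ⟨z, hz⟩ := h Q₀ (y Q₀)
      refine ⟨z, fun Q hQ => ?_⟩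
      obtain rfl := hi hQ
      exact hz
    · exact ⟨0, fun Q hQ => (hp ⟨Q, hQ⟩).elim⟩
  choose z hz using this
  exact ⟨z, funext fun Q => hz _ Q rfl⟩

lemma comap_bijective_of_Nmap_bijective (f : A →+* B) (h : Function.Bijective (η.Nmap f)) :
    Function.Bijective (PrimeSpectrum.comap f) := by
  classical
  constructor
  · intro Q Q' hQ
    by_contra hne
    obtain ⟨x, hx⟩ := h.2 (Pi.single Q 1)
    have h1 : η.Nmap f x Q = 1 := by rw [hx, Pi.single_eq_same]
    have h2 : η.Nmap f x Q' = 0 := by rw [hx, Pi.single_eq_of_ne (Ne.symm hne)]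
    have e : ∀ Q : PrimeSpectrum B, (η.Nmap f x Q = 0 ↔ x (PrimeSpectrum.comap f Q) = 0) :=
      fun Q => by rw [Nmap_apply, map_eq_zero]
    rw [e, ← hQ, ← e, h1] at h2
    exact one_ne_zero h2
  · intro p
    by_contra hne
    push Not at hne
    have : η.Nmap f (Pi.single p 1) = 0 := by
      funext Q
      rw [Nmap_apply, Pi.single_eq_of_ne (hne Q), map_zero]; rfl
    have h0 := congrFun (h.1 (this.trans (map_zero _).symm)) p
    rw [Pi.single_eq_same] at h0
    exact one_ne_zero h0

lemma component_bijective_of_Nmap_bijective (f : A →+* B) (h : Function.Bijective (η.Nmap f))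
    (Q : PrimeSpectrum B) : Function.Bijective
      (η.map (Ideal.ResidueField.map (PrimeSpectrum.comap f Q).asIdeal Q.asIdeal f rfl)) := by
  classical
  refine ⟨RingHom.injective _, fun z => ?_⟩
  obtain ⟨x, hx⟩ := h.2 (Pi.single Q z)
  refine ⟨x (PrimeSpectrum.comap f Q), ?_⟩
  rw [← Nmap_apply, hx, Pi.single_eq_same]

/-- a residual factorization at all points gives bijectivity of `N` -/
lemma Nmap_bijective_of_factor (f : A →+* B) (hb : Function.Bijective (PrimeSpectrum.comap f))
    (hφ : ∀ Q : PrimeSpectrum B,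
      ∃ φ : Q.asIdeal.ResidueField →+* η.obj (PrimeSpectrum.comap f Q).asIdeal.ResidueField,
        φ.comp (Ideal.ResidueField.map (PrimeSpectrum.comap f Q).asIdeal Q.asIdeal f rfl) =
          η.eta (PrimeSpectrum.comap f Q).asIdeal.ResidueField) :
    Function.Bijective (η.Nmap f) := by
  refine ⟨Nmap_injective η f hb.2, Nmap_surjective η f hb.1 fun Q z => ?_⟩
  obtain ⟨φ, hφ⟩ := hφ Q
  obtain ⟨w, hw⟩ := (η.bijective_map_eta _).2 (η.map φ z)
  refine ⟨w, (η.map φ).injective ?_⟩
  rw [← hw, ← hφ, η.map_comp]; rfl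

lemma factor_of_Nmap_bijective (f : A →+* B) (h : Function.Bijective (η.Nmap f))
    (Q : PrimeSpectrum B) :
    ∃ φ : Q.asIdeal.ResidueField →+* η.obj (PrimeSpectrum.comap f Q).asIdeal.ResidueField,
      φ.comp (Ideal.ResidueField.map (PrimeSpectrum.comap f Q).asIdeal Q.asIdeal f rfl) =
        η.eta (PrimeSpectrum.comap f Q).asIdeal.ResidueField := by
  let e := RingEquiv.ofBijective _ (component_bijective_of_Nmap_bijective η f h Q)
  refine ⟨e.symm.toRingHom.comp (η.eta _), RingHom.ext fun a => e.injective ?_⟩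
  simp only [RingHom.comp_apply, RingEquiv.toRingHom_eq_coe, RingEquiv.coe_toRingHom,
    RingEquiv.apply_symm_apply]
  exact (map_eta_apply η _ a).symm

end Ev

section Membership

variable {A B : Type u} [CommRing A] [CommRing B]

lemma inV_iff (R L : Type u) [CommRing R] [IsDomain R] [Field L] [Algebra R L] [IsFractionRing R L] :
    η.InV R ↔ Function.Bijective (η.eta L) := by
  let e := FractionRing.algEquiv R L
  exact ⟨bijective_eta_of_bijective η e.toRingEquiv.toRingHom e.bijective,
    bijective_eta_of_bijective η e.symm.toRingEquiv.toRingHom e.symm.bijective⟩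

lemma inV_valuationSubring {L : Type u} [Field L] (hL : Function.Bijective (η.eta L))
    (V : ValuationSubring L) : η.InV V :=
  (inV_iff η V L).mpr hL

lemma mem_M_iff {x : η.N A} :
    x ∈ η.M A ↔ ∀ (R : Type u) [CommRing R] [IsDomain R] [ValuationRing R], η.InV R →
      ∀ g : A →+* R, ∃ r : R, ∀ (K : Type u) [Field K] (ψ : R →+* K),
        ev η (ψ.comp g) x = η.eta K (ψ r) := by
  constructor
  · intro h R _ _ _ hR g
    obtain ⟨r, hr⟩ := h R hR g
    exact ⟨r, fun K _ ψ => by rw [← ev_Nmap, ← hr, ev_t]⟩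
  · intro h R _ _ _ hR g
    obtain ⟨r, hr⟩ := h R hR g
    refine ⟨r, funext fun P => ?_⟩
    rw [Nmap_apply_ev, hr _ (res P)]
    rfl

lemma Nmap_mem_M (f : A →+* B) {x : η.N A} (hx : x ∈ η.M A) : η.Nmap f x ∈ η.M B :=
  fun R _ _ _ hR g => by rw [Nmap_Nmap]; exact hx R hR (g.comp f)

/-- the map `M(A) → M(B)` -/
noncomputable def Mmap (f : A →+* B) : η.M A →+* η.M B :=
  ((η.Nmap f).comp (η.M A).subtype).codRestrict (η.M B) fun x => Nmap_mem_M η f x.2

@[simp] lemma coe_Mmap (f : A →+* B) (x : η.M A) :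
    (Mmap η f x : η.N B) = η.Nmap f (x : η.N A) := rfl

@[simp] lemma coe_q (a : A) : ((η.q A a : η.M A) : η.N A) = η.t A a := rfl

lemma Mmap_q (f : A →+* B) : (Mmap η f).comp (η.q A) = (η.q B).comp f :=
  RingHom.ext fun a => Subtype.ext (η.Nmap_t_apply f a)

/-- a valuation ring of an algebraically closed field centred at a given prime -/
lemma exists_valuation {L : Type u} [Field L] (g : A →+* L) (q : PrimeSpectrum A)
    (h : RingHom.ker g ≤ q.asIdeal) :
    ∃ (V : ValuationSubring L) (g' : A →+* V), V.subtype.comp g' = g ∧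
      RingHom.ker ((IsLocalRing.residue V).comp g') = q.asIdeal := by
  let f : Localization.AtPrime q.asIdeal →+* L :=
    IsLocalization.lift (M := q.asIdeal.primeCompl) (g := g)
      fun s => isUnit_iff_ne_zero.mpr fun h0 => s.2 (h h0)
  obtain ⟨V, hV, hloc⟩ := IsLocalRing.exists_factor_valuationRing f
  refine ⟨V, (f.codRestrict V.toSubring hV).comp (algebraMap A _), ?_, ?_⟩
  · ext a
    exact IsLocalization.lift_eq _ a
  · ext a
    rw [RingHom.mem_ker, RingHom.comp_apply, IsLocalRing.residue_eq_zero_iff]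
    refine Iff.trans ?_ (IsLocalization.AtPrime.to_map_mem_maximal_iff
      (Localization.AtPrime q.asIdeal) q.asIdeal a)
    simp only [IsLocalRing.mem_maximalIdeal, mem_nonunits_iff, RingHom.comp_apply]
    exact not_congr ⟨hloc.map_nonunit _, fun hu => hu.map _⟩

/-- an element of `M` vanishing at a prime vanishes at its specializations -/
lemma eq_zero_of_le {x : η.N A} (hx : x ∈ η.M A) {p q : PrimeSpectrum A}
    (hpq : p.asIdeal ≤ q.asIdeal) (h : x p = 0) : x q = 0 := by
  let g0 : A →+* AlgebraicClosure p.asIdeal.ResidueField :=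
    (algebraMap _ (AlgebraicClosure p.asIdeal.ResidueField)).comp (res p)
  have hg0 : RingHom.ker g0 = p.asIdeal := by
    rw [RingHom.ker_comp_of_injective _ (RingHom.injective _), ker_res]
  obtain ⟨V, g, hg, hq⟩ := exists_valuation g0 q (hg0.trans_le hpq)
  obtain ⟨r, hr⟩ := (mem_M_iff η).mp hx V
    (inV_valuationSubring η (bijective_eta_of_perfectField η _) V) g
  have h0 := hr _ V.subtype
  rw [hg, (ev_eq_zero_iff η g0 p hg0 x).mpr h, eq_comm, map_eq_zero] at h0
  have : r = 0 := Subtype.ext h0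
  have h1 := hr _ (IsLocalRing.residue V)
  rw [this, map_zero, map_zero] at h1
  exact (ev_eq_zero_iff η _ q hq x).mp h1

lemma eq_zero_of_minimalPrimes {x : η.N A} (hx : x ∈ η.M A)
    (h : ∀ p : PrimeSpectrum A, p.asIdeal ∈ minimalPrimes A → x p = 0) : x = 0 := by
  funext q
  obtain ⟨m, hm, hmq⟩ := Ideal.exists_minimalPrimes_le (bot_le : (⊥ : Ideal A) ≤ q.asIdeal)
  exact eq_zero_of_le η hx (p := ⟨m, hm.1.1⟩) hmq (h _ hm)

lemma injOn_generic [IsDomain A] :
    Set.InjOn (fun x : η.N A => x ⟨⊥, Ideal.isPrime_bot⟩) (η.M A) := by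
  intro x hx y hy hxy
  refine sub_eq_zero.mp (eq_zero_of_minimalPrimes η (sub_mem hx hy) fun p hp => ?_)
  have : p = ⟨⊥, Ideal.isPrime_bot⟩ := PrimeSpectrum.ext (by
    rw [IsDomain.minimalPrimes_eq_singleton_bot] at hp; exact hp)
  subst this
  exact sub_eq_zero.mpr hxy

set_option maxHeartbeats 800000 in
/-- every component of an element of `M` is integral over `A` -/
lemma component_isIntegralElem {x : η.N A} (hx : x ∈ η.M A) (p : PrimeSpectrum A) :
    ((η.eta p.asIdeal.ResidueField).comp (res p)).IsIntegralElem (x p) := by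
  let L := AlgebraicClosure p.asIdeal.ResidueField
  let ι : p.asIdeal.ResidueField →+* L := algebraMap _ L
  let g0 : A →+* L := ι.comp (res p)
  have hL : Function.Bijective (η.eta L) := bijective_eta_of_perfectField η _
  obtain ⟨z, hz⟩ := hL.2 (η.map ι (x p))
  letI : Algebra A L := g0.toAlgebra
  have hzI : IsIntegral A z := by
    by_contra hzn
    let C : Subring L := (integralClosure A L).toSubring
    haveI : IsIntegrallyClosedIn C L := by
      refine Subring.isIntegrallyClosedIn_iff.mpr fun {w} hw => ?_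
      exact isIntegral_trans (A := integralClosure A L) w hw
    obtain ⟨V, hCV, hzV⟩ := C.exists_le_valuationSubring_of_isIntegrallyClosedIn (x := z) hzn
    let g : A →+* V := g0.codRestrict V.toSubring fun a => hCV ((integralClosure A L).algebraMap_mem a)
    obtain ⟨r, hr⟩ := (mem_M_iff η).mp hx V (inV_valuationSubring η hL V) g
    have h0 := hr _ V.subtype
    rw [show V.subtype.comp g = g0 from rfl, ev_eq η g0 p ι rfl, ← hz] at h0
    exact hzV (hL.1 h0 ▸ r.2)
  obtain ⟨P, hP, hPz⟩ := hzI
  refine ⟨P, hP, (η.map ι).injective ?_⟩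
  have e : (η.map ι).comp ((η.eta p.asIdeal.ResidueField).comp (res p)) = (η.eta L).comp g0 :=
    RingHom.ext fun a => map_eta_apply η ι _
  have hPz' : Polynomial.eval₂ g0 z P = 0 := hPz
  rw [Polynomial.hom_eval₂, ← hz, e, ← Polynomial.hom_eval₂, hPz', map_zero, map_zero]

/-- evaluation of `M(A)` at a prime -/
noncomputable def evM (p : PrimeSpectrum A) : η.M A →+* η.obj p.asIdeal.ResidueField :=
  (Pi.evalRingHom (fun p : PrimeSpectrum A => η.obj p.asIdeal.ResidueField) p).comp
    (η.M A).subtype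

lemma evM_comp_q (p : PrimeSpectrum A) :
    (evM η p).comp (η.q A) = (η.eta p.asIdeal.ResidueField).comp (res p) := rfl

lemma eq_zero_of_evM {x : η.M A}
    (h : ∀ p : PrimeSpectrum A, p.asIdeal ∈ minimalPrimes A → evM η p x = 0) : x = 0 :=
  Subtype.ext (eq_zero_of_minimalPrimes η x.2 h)

/-- `q_A` is integral -/
lemma q_isIntegral (hA : (minimalPrimes A).Finite) : (η.q A).IsIntegral := by
  classical
  intro x
  haveI := hA.fintype
  choose P hP hPx using fun m : minimalPrimes A =>
    component_isIntegralElem η x.2 ⟨m.1, m.2.1.1⟩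
  refine ⟨∏ m, P m, Polynomial.monic_prod_of_monic _ _ fun m _ => hP m,
    eq_zero_of_evM η fun p hp => ?_⟩
  rw [Polynomial.hom_eval₂, evM_comp_q, Polynomial.eval₂_finsetProd]
  exact Finset.prod_eq_zero (i := ⟨p.asIdeal, hp⟩) (Finset.mem_univ _) (hPx ⟨p.asIdeal, hp⟩)

end Membership

end Groth.EtaPt16
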