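import Mathlib

/-!
# Generalization-maximal points and finiteness of irreducible components
-/

universe u

open AlgebraicGeometry CategoryTheory TopologicalSpace

namespace Groth.EtaPt16

/-- the points without proper generalization -/
def maxPts (X : Type*) [TopologicalSpace X] : Set X := {y | ∀ z, z ⤳ y → z = y}

lemma finite_components_iff (X : Type*) [TopologicalSpace X] [QuasiSober X] [T0Space X] :
    (irreducibleComponents X).Finite ↔ (maxPts X).Finite := by
  constructor
  · intro h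
    refine (h.dependent_image fun Z hZ => (hZ.1 : IsIrreducible Z).genericPoint).subset fun y hy => ?_
    refine ⟨irreducibleComponent y, irreducibleComponent_mem_irreducibleComponents y, hy _ ?_⟩
    refine specializes_iff_mem_closure.mpr ?_
    rw [IsIrreducible.genericPoint_closure_eq]
    exact subset_closure mem_irreducibleComponent
  · intro h
    refine ((h.image fun y => closure ({y} : Set X))).subset fun Z hZ => ?_
    have hirr : IsIrreducible Z := hZ.1
    have hcl := isClosed_of_mem_irreducibleComponents Z hZ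
    refine ⟨hirr.genericPoint, fun z hz => ?_, by
      show closure {hirr.genericPoint} = Z
      rw [IsIrreducible.genericPoint_closure_eq, hcl.closure_eq]⟩
    have hsub : closure Z ⊆ closure ({z} : Set X) := by
      rw [← hirr.genericPoint_closure_eq]
      exact specializes_iff_closure_subset.mp hz
    have hle : closure ({z} : Set X) ⊆ Z :=
      hZ.2 (isIrreducible_singleton.closure) (subset_closure.trans hsub)
    refine (hz.antisymm ?_).eq
    exact specializes_iff_mem_closure.mpr (by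
      rw [hirr.genericPoint_closure_eq]; exact subset_closure (hle (subset_closure rfl)))

lemma maxPts_isOpen {X : Type*} [TopologicalSpace X] {s : Set X} (hs : IsOpen s) :
    Subtype.val '' (maxPts s) = maxPts X ∩ s := by
  ext y
  constructor
  · rintro ⟨⟨y, hy⟩, hmax, rfl⟩
    refine ⟨fun z hz => ?_, hy⟩
    exact congrArg Subtype.val (hmax ⟨z, hz.mem_open hs hy⟩ (Topology.IsInducing.subtypeVal.specializes_iff.mp hz))
  · rintro ⟨hmax, hy⟩
    exact ⟨⟨y, hy⟩, fun z hz => Subtype.ext (hmax z (Topology.IsInducing.subtypeVal.specializes_iff.mpr hz)), rfl⟩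

lemma finite_components_open_iff {X : Type*} [TopologicalSpace X] [QuasiSober X] [T0Space X]
    {s : Set X} (hs : IsOpen s) :
    (irreducibleComponents s).Finite ↔ (maxPts X ∩ s).Finite := by
  haveI : QuasiSober s := hs.isOpenEmbedding_subtypeVal.quasiSober
  rw [finite_components_iff, ← maxPts_isOpen hs]
  exact ⟨fun h => h.image _, fun h => h.of_finite_image Subtype.val_injective.injOn⟩

lemma finite_maxPts_inter {Y X : Scheme.{u}} (f : Y ⟶ X) [Flat f]
    [LocallyOfFinitePresentation f] (U : X.Opens) (hU : IsAffineOpen U) (W : Y.Opens)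
    (hW : IsAffineOpen W) (hWU : W ≤ f ⁻¹ᵁ U) (hUfin : (maxPts X ∩ (U : Set X)).Finite) :
    (maxPts Y ∩ (W : Set Y)).Finite := by
  haveI : IsAffine W := hW
  haveI : IsAffine U := hU
  let φ := f.resLE U W hWU
  haveI : LocallyOfFinitePresentation φ := inferInstance
  haveI : LocallyOfFiniteType φ := inferInstance
  have hmap : ∀ z ∈ maxPts Y, f z ∈ maxPts X := fun z hz w hw => by
    obtain ⟨z', hz', rfl⟩ := Flat.generalizingMap f hw
    rw [hz z' hz']
  refine (hUfin.biUnion (t := fun p => (maxPts Y ∩ (W : Set Y)) ∩ f ⁻¹' {p})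
    fun p hp => ?_).subset fun z hz => Set.mem_biUnion
      (show f z ∈ maxPts X ∩ (U : Set X) from ⟨hmap z hz.1, hWU hz.2⟩) ⟨hz, rfl⟩
  let p' : (U : Scheme) := ⟨p, hp.2⟩
  haveI : LocallyOfFiniteType (φ.fiberToSpecResidueField p') :=
    inferInstanceAs (LocallyOfFiniteType (Limits.pullback.snd _ _))
  haveI : IsNoetherianRing ((U : Scheme).residueField p') :=
    inferInstanceAs (IsNoetherianRing (IsLocalRing.ResidueField ((U : Scheme).presheaf.stalk p')))
  haveI : CompactSpace (φ.fiber p') := inferInstance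
  haveI : IsLocallyNoetherian (φ.fiber p') :=
    LocallyOfFiniteType.isLocallyNoetherian (φ.fiberToSpecResidueField p')
  haveI : AlgebraicGeometry.IsNoetherian (φ.fiber p') := { toIsLocallyNoetherian := inferInstance }
  have hfin : (maxPts (φ.fiber p')).Finite :=
    (finite_components_iff _).mp NoetherianSpace.finite_irreducibleComponents
  refine (hfin.image fun z => W.ι (φ.fiberι p' z)).subset ?_
  rintro z ⟨⟨hzmax, hzW⟩, hzp⟩
  obtain ⟨zW, rfl⟩ : z ∈ Set.range W.ι := by rwa [Scheme.Opens.range_ι]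
  have hφ : φ zW = p' := by
    refine U.ι.injective ?_
    rw [← Scheme.Hom.comp_apply, Scheme.Hom.resLE_comp_ι]
    exact hzp
  let w := (φ.fiberHomeo p').symm ⟨zW, hφ⟩
  have hw : W.ι (φ.fiberι p' w) = W.ι zW := congrArg _ (Scheme.Hom.fiberι_fiberHomeo_symm φ p' ⟨zW, hφ⟩)
  refine ⟨w, fun w' hw' => ?_, hw⟩
  have h1 : W.ι (φ.fiberι p' w') ⤳ W.ι (φ.fiberι p' w) :=
    (hw'.map (φ.fiberι p').continuous).map W.ι.continuous
  rw [hw] at h1
  exact ((φ.fiberι p').isEmbedding.injective (W.ι.injective ((hzmax _ h1).trans hw.symm)))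

lemma finite_components_opens {Y X : Scheme.{u}} (f : Y ⟶ X) [Flat f]
    [LocallyOfFinitePresentation f]
    (hX : ∀ U : X.Opens, IsCompact (U : Set X) → (irreducibleComponents (U : Type u)).Finite)
    (V : Y.Opens) (hV : IsCompact (V : Set Y)) : (irreducibleComponents (V : Type u)).Finite := by
  refine (finite_components_open_iff (X := Y) (s := (V : Set Y)) V.isOpen).mpr ?_
  have key : ∀ y : Y, ∃ W : Y.Opens, y ∈ W ∧ (maxPts Y ∩ (W : Set Y)).Finite := by
    intro y
    obtain ⟨_, ⟨U, hU, rfl⟩, hyU, -⟩ := X.isBasis_affineOpens.exists_subset_of_mem_open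
      (Set.mem_univ (f y)) isOpen_univ
    obtain ⟨_, ⟨W, hW, rfl⟩, hyW, hWU⟩ := Y.isBasis_affineOpens.exists_subset_of_mem_open
      (show y ∈ ((f ⁻¹ᵁ U : Y.Opens) : Set Y) from hyU) (f ⁻¹ᵁ U).isOpen
    refine ⟨W, hyW, ?_⟩
    have hUfin : (maxPts X ∩ (U : Set X)).Finite :=
      (finite_components_open_iff U.isOpen).mp (hX U hU.isCompact)
    exact finite_maxPts_inter f U hU W hW hWU hUfin
  choose W hW hWfin using key
  obtain ⟨t, ht⟩ := hV.elim_finite_subcover (fun y : Y => (W y : Set Y)) (fun y => (W y).isOpen)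
    fun y _ => Set.mem_iUnion.mpr ⟨y, hW y⟩
  refine (t.finite_toSet.biUnion fun y _ => hWfin y).subset fun z hz => ?_
  obtain ⟨y, hy, hzy⟩ := Set.mem_iUnion₂.mp (ht hz.2)
  exact Set.mem_biUnion hy ⟨hz.1, hzy⟩

lemma exists_affineOpen_image_eq {X Y : Scheme.{u}} (f : Y ⟶ X) [Flat f] [Surjective f]
    [LocallyOfFinitePresentation f] (U : X.affineOpens) (x : X) (hx : x ∈ (U : X.Opens)) :
    ∃ V : X.affineOpens, x ∈ (V : X.Opens) ∧ (V : X.Opens) ≤ (U : X.Opens) ∧
      ∃ W : Y.affineOpens, f.base '' ((W : Y.Opens) : Set Y) = ((V : X.Opens) : Set X) := by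
  obtain ⟨y, rfl⟩ := f.surjective x
  obtain ⟨_, ⟨W, hW, rfl⟩, hyW, hWU⟩ := Y.isBasis_affineOpens.exists_subset_of_mem_open
    (show y ∈ ((f ⁻¹ᵁ U.1 : Y.Opens) : Set Y) from hx) (f ⁻¹ᵁ U.1).isOpen
  let O : X.Opens := ⟨f.base '' (W : Set Y), f.isOpenMap _ W.isOpen⟩
  replace hWU : W ≤ f ⁻¹ᵁ U.1 := hWU
  obtain ⟨r, hrO, hyr⟩ := U.2.exists_basicOpen_le (V := O) ⟨f y, ⟨y, hyW, rfl⟩⟩ hx
  refine ⟨⟨X.basicOpen r, U.2.basicOpen r⟩, hyr, X.basicOpen_le r,
    ⟨Y.basicOpen ((f.appLE U.1 W hWU) r), hW.basicOpen _⟩, ?_⟩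
  replace hWU : W ≤ f ⁻¹ᵁ U.1 := hWU
  show f.base '' ((Y.basicOpen ((f.appLE U.1 W hWU) r) : Y.Opens) : Set Y) = _
  rw [Scheme.basicOpen_appLE, Opens.coe_inf]
  refine Set.eq_of_subset_of_subset ?_ fun p hp => ?_
  · rintro _ ⟨z, ⟨-, hz⟩, rfl⟩; exact hz
  · obtain ⟨z, hz, rfl⟩ := hrO hp
    exact ⟨z, ⟨hz, hp⟩, rfl⟩

end Groth.EtaPt16
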