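import Groth.Agent.EtaPt16.Rel

/-!
# `M` and `rel` under localization at an element
-/

universe u

namespace Groth.EtaPt16

open EtaPt

variable (η : FieldEndo.{u})
variable {A B : Type u} [CommRing A] [CommRing B] (f : A)

local notation "Af" => Localization.Away f

lemma component_eq_of_Nmap_eq {C D : Type u} [CommRing C] [CommRing D] (j : C →+* D) {x y : η.N C}
    (e : η.Nmap j x = η.Nmap j y) (Q : PrimeSpectrum D) :
    x (PrimeSpectrum.comap j Q) = y (PrimeSpectrum.comap j Q) := by
  have h := congrFun e Q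
  rw [Nmap_apply, Nmap_apply] at h
  exact RingHom.injective _ h

lemma loc_surjectiveOnStalks : (algebraMap A Af).SurjectiveOnStalks :=
  RingHom.surjectiveOnStalks_of_isLocalization (Submonoid.powers f) _

lemma loc_comap_injective : Function.Injective (PrimeSpectrum.comap (algebraMap A Af)) :=
  PrimeSpectrum.localization_comap_injective _ (Submonoid.powers f)

lemma mem_range_loc {p : PrimeSpectrum A} (hp : f ∉ p.asIdeal) :
    ∃ Q, PrimeSpectrum.comap (algebraMap A Af) Q = p := by
  have : p ∈ Set.range (PrimeSpectrum.comap (algebraMap A Af)) := by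
    rw [PrimeSpectrum.localization_away_comap_range Af f]; exact hp
  exact this

lemma Nmap_loc_surjective : Function.Surjective (η.Nmap (algebraMap A Af)) :=
  Nmap_surjective η _ (loc_comap_injective f) fun Q => (bijective_map_of_bijective η _
    ((loc_surjectiveOnStalks f).residueFieldMap_bijective _ _ rfl)).2

lemma t_mul_eq_zero_of_Nmap {x : η.N A} (hx : η.Nmap (algebraMap A Af) x = 0) :
    η.t A f * x = 0 := by
  funext p
  by_cases hp : f ∈ p.asIdeal
  · show η.eta _ (res p f) * _ = _
    rw [show res p f = 0 from Ideal.algebraMap_residueField_eq_zero.mpr hp, map_zero, zero_mul]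
    rfl
  · obtain ⟨Q, rfl⟩ := mem_range_loc f hp
    have := congrFun hx Q
    rw [Nmap_apply] at this
    show _ * x _ = _
    rw [(map_eq_zero _).mp this, mul_zero]
    rfl

lemma finite_minimalPrimes_loc (hA : (minimalPrimes A).Finite) :
    (minimalPrimes Af).Finite := by
  refine Set.Finite.of_finite_image (f := Ideal.comap (algebraMap A Af)) (hA.subset ?_) ?_
  · rintro _ ⟨P, hP, rfl⟩
    have h : P ∈ (⊥ : Ideal Af).minimalPrimes := hP
    rw [← Ideal.map_bot (f := algebraMap A Af),
      IsLocalization.minimalPrimes_map (Submonoid.powers f)] at h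
    exact h
  · intro P hP Q hQ e
    haveI := hP.1.1
    haveI := hQ.1.1
    exact congrArg PrimeSpectrum.asIdeal (@loc_comap_injective A _ f ⟨P, hP.1.1⟩ ⟨Q, hQ.1.1⟩
      (PrimeSpectrum.ext e))

lemma M_loc_surjective (hA : (minimalPrimes A).Finite) {y : η.N Af} (hy : y ∈ η.M Af) :
    ∃ x ∈ η.M A, ∃ n : ℕ,
      y * η.t Af (algebraMap A Af f) ^ n = η.Nmap (algebraMap A Af) x := by
  obtain ⟨x0, rfl⟩ := Nmap_loc_surjective η f y
  obtain ⟨n, P, hP, hPy⟩ : ∃ (n : ℕ) (P : Polynomial A), P.Monic ∧
      Polynomial.eval₂ ((η.t Af).comp (algebraMap A Af))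
        (η.t Af (algebraMap A Af f) ^ n * η.Nmap (algebraMap A Af) x0) P = 0 := by
    letI : Algebra Af (η.N Af) := (η.t Af).toAlgebra
    letI : Algebra A (η.N Af) := ((η.t Af).comp (algebraMap A Af)).toAlgebra
    haveI : IsScalarTower A Af (η.N Af) := IsScalarTower.of_algebraMap_eq fun _ => rfl
    have hint : IsIntegral Af (η.Nmap (algebraMap A Af) x0) := by
      obtain ⟨P, hP, hPy⟩ := q_isIntegral η (finite_minimalPrimes_loc f hA) ⟨_, hy⟩
      refine ⟨P, hP, ?_⟩
      have := congrArg (η.M Af).subtype hPy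
      rw [Polynomial.hom_eval₂, map_zero] at this
      exact this
    obtain ⟨⟨_, n, rfl⟩, hm⟩ :=
      hint.exists_multiple_integral_of_isLocalization (Submonoid.powers f) _
    obtain ⟨P, hP, hPy⟩ := hm
    refine ⟨n, P, hP, ?_⟩
    rw [show η.t Af (algebraMap A Af f) ^ n = algebraMap A (η.N Af) (f ^ n) by
      rw [map_pow]; rfl]
    rw [← Algebra.smul_def]
    exact hPy
  refine ⟨η.t A (f ^ (n + 1)) * x0, ?_, n + 1, by
    rw [map_mul, η.Nmap_t_apply, map_pow, map_pow, mul_comm]⟩
  rw [mem_M_iff]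
  intro R _ _ _ hR g
  by_cases hgf : g f = 0
  · refine ⟨0, fun K _ ψ => ?_⟩
    rw [map_mul, ev_t, RingHom.comp_apply, map_pow g, hgf, zero_pow (Nat.succ_ne_zero n), map_zero,
      map_zero, zero_mul]
  let S := Localization.Away (g f)
  have hpow : Submonoid.powers (g f) ≤ nonZeroDivisors R :=
    powers_le_nonZeroDivisors_of_noZeroDivisors hgf
  haveI : IsDomain S := IsLocalization.isDomain_localization hpow
  haveI : ValuationRing S := by
    refine ValuationRing.iff_dvd_total.mpr ⟨fun a b => ?_⟩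
    obtain ⟨a, s, rfl⟩ := IsLocalization.exists_mk'_eq (Submonoid.powers (g f)) a
    obtain ⟨b, t, rfl⟩ := IsLocalization.exists_mk'_eq (Submonoid.powers (g f)) b
    have key : ∀ (a b : R) (s t : Submonoid.powers (g f)), a ∣ b →
        IsLocalization.mk' S a s ∣ IsLocalization.mk' S b t := fun a b s t ⟨c, hc⟩ =>
      ⟨IsLocalization.mk' S (c * s) t, by
        rw [← IsLocalization.mk'_mul]
        refine IsLocalization.mk'_eq_of_eq ?_
        rw [hc, Submonoid.coe_mul]; ring⟩
    rcases ValuationRing.dvd_total a b with h | h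
    exacts [Or.inl (key a b s t h), Or.inr (key b a t s h)]
  let L := FractionRing R
  letI : Algebra S L :=
    IsLocalization.localizationAlgebraOfSubmonoidLe S L (Submonoid.powers (g f)) (nonZeroDivisors R) hpow
  haveI : IsScalarTower R S L :=
    IsLocalization.localization_isScalarTower_of_submonoid_le S L (Submonoid.powers (g f))
      (nonZeroDivisors R) hpow
  haveI : IsFractionRing S L :=
    IsFractionRing.isFractionRing_of_isDomain_of_isLocalization (Submonoid.powers (g f)) S L
  have hS : η.InV S := (inV_iff η S L).mpr ((inV_iff η R L).mp hR)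
  let gS : Af →+* S := IsLocalization.Away.lift f (g := (algebraMap R S).comp g)
    (IsLocalization.Away.algebraMap_isUnit (g f))
  have hgS : gS.comp (algebraMap A Af) = (algebraMap R S).comp g :=
    RingHom.ext fun a => IsLocalization.Away.lift_eq f (IsLocalization.Away.algebraMap_isUnit (g f)) a
  obtain ⟨r1, hr1⟩ := (mem_M_iff η).mp hy S hS gS
  have hr1' : ∀ (K : Type u) [Field K] (ψ : S →+* K),
      ev η ((ψ.comp (algebraMap R S)).comp g) x0 = η.eta K (ψ r1) := fun K _ ψ => by
    rw [← hr1 K ψ, ev_Nmap, RingHom.comp_assoc, RingHom.comp_assoc, hgS]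
  let ψL : S →+* L := algebraMap S L
  have hψL : ψL.comp (algebraMap R S) = algebraMap R L := (IsScalarTower.algebraMap_eq R S L).symm
  -- `z = g(f)^n r₁` is integral over `R`
  obtain ⟨z, hz⟩ : ∃ z, algebraMap R L z = ψL (algebraMap R S (g f) ^ n * r1) := by
    refine IsIntegrallyClosed.isIntegral_iff.mp ⟨P.map g, hP.map g, (η.eta L).injective ?_⟩
    rw [map_zero, Polynomial.eval₂_map, Polynomial.hom_eval₂]
    have h0 := congrArg (ev η (ψL.comp gS)) hPy
    rw [Polynomial.hom_eval₂, map_zero] at h0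
    convert h0 using 2
    · refine RingHom.ext fun a => ?_
      simp only [RingHom.comp_apply]
      rw [ev_t]
      simp only [RingHom.comp_apply]
      rw [← RingHom.comp_apply gS, hgS, ← hψL]
      rfl
    · simp only [map_mul, map_pow, ev_t]
      rw [hr1 L ψL, show (ψL.comp gS) (algebraMap A Af f) = ψL (algebraMap R S (g f)) from
        congrArg ψL (RingHom.congr_fun hgS f)]
  refine ⟨g f * z, fun K _ ψ => ?_⟩
  rw [map_mul, ev_t, RingHom.comp_apply, map_pow g, map_pow ψ, pow_succ, map_mul ψ]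
  by_cases hψ : ψ (g f) = 0
  · rw [hψ, mul_zero, map_zero, zero_mul, zero_mul, map_zero]
  let ψS : S →+* K := IsLocalization.Away.lift (g f) (g := ψ) (isUnit_iff_ne_zero.mpr hψ)
  have hψS : ∀ a, ψS (algebraMap R S a) = ψ a := fun a => IsLocalization.Away.lift_eq _ _ a
  have e1 : algebraMap R S z = algebraMap R S (g f) ^ n * r1 :=
    IsFractionRing.injective S L (by rw [← IsScalarTower.algebraMap_apply, hz])
  have := hr1' K ψS
  rw [show ψS.comp (algebraMap R S) = ψ from RingHom.ext hψS] at this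
  rw [this, ← map_mul]
  congr 1
  rw [← hψS z, e1, map_mul, map_pow, hψS]
  ring

lemma rel_loc_aux {A' B' : Type u} [CommRing A'] [CommRing B'] (φ : A →+* B) (i : A →+* A')
    (g : B →+* B') (ψ : A' →+* B') (hc : g.comp φ = ψ.comp i) (f : A) (x : η.N A) (z : η.N A')
    (y : B') (b : B) (n m : ℕ) (hn : z * η.t A' (i f) ^ n = η.Nmap i x)
    (hzy : η.Nmap ψ z = η.t B' y) (hb : y * g (φ f) ^ m = g b) :
    η.Nmap g (η.Nmap φ (η.t A (f ^ (m + 1)) * x)) = η.Nmap g (η.t B (φ f ^ (n + 1) * b)) := by
  rw [Nmap_Nmap, hc, ← Nmap_Nmap, η.Nmap_t_apply]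
  simp only [map_mul, map_pow, η.Nmap_t_apply, ← hn, hzy]
  have e : ψ (i f) = g (φ f) := (RingHom.congr_fun hc f).symm
  rw [← hb, e]
  simp only [map_mul, map_pow]
  ring

lemma rel_loc (hA : (minimalPrimes A).Finite) (φ : A →+* B) :
    (η.rel φ).map (algebraMap B (Localization.Away (φ f))) ≤ η.rel (Localization.awayMap φ f) ∧
      ∀ y ∈ η.rel (Localization.awayMap φ f), ∃ x ∈ η.rel φ, ∃ n : ℕ,
        y * algebraMap B (Localization.Away (φ f)) (φ f) ^ n =
          algebraMap B (Localization.Away (φ f)) x := by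
  let Bf := Localization.Away (φ f)
  have hc : (algebraMap B Bf).comp φ = (Localization.awayMap φ f).comp (algebraMap A Af) :=
    RingHom.ext fun a => by
      simp only [RingHom.comp_apply, Localization.awayMap, IsLocalization.Away.map]
      exact (IsLocalization.map_eq _ a).symm
  refine ⟨?_, fun y ⟨z, hz, hzy⟩ => ?_⟩
  · rintro _ ⟨b, hb, rfl⟩
    exact map_mem_rel' η φ _ (algebraMap A Af) _ hc hb
  obtain ⟨x, hx, n, hn⟩ := M_loc_surjective η f hA hz
  obtain ⟨m, b, hb⟩ := IsLocalization.Away.surj (φ f) y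
  refine ⟨φ f ^ (n + 1) * b, ⟨η.t A (f ^ (m + 1)) * x, mul_mem (η.t_mem_M _ _) hx, ?_⟩,
    m + n + 1, ?_⟩
  · funext Q
    by_cases hQ : φ f ∈ Q.asIdeal
    · have h0 : res Q (φ f) = 0 := Ideal.algebraMap_residueField_eq_zero.mpr hQ
      rw [map_mul, η.Nmap_t_apply, map_pow φ]
      show η.eta _ (res Q (φ f ^ (m + 1))) * _ = η.eta _ (res Q (φ f ^ (n + 1) * b))
      rw [map_pow, h0, zero_pow (Nat.succ_ne_zero m), map_zero, zero_mul, map_mul (res Q),
        map_pow (res Q), h0, zero_pow (Nat.succ_ne_zero n), zero_mul, map_zero]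
    · obtain ⟨Q', rfl⟩ := mem_range_loc (φ f) hQ
      have e := rel_loc_aux η φ (algebraMap A Af) (algebraMap B Bf) (Localization.awayMap φ f) hc f x z y b n m hn hzy hb
      exact component_eq_of_Nmap_eq η (algebraMap B Bf) e Q'
  · rw [map_mul, map_pow, ← hb]
    ring

end Groth.EtaPt16
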