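import Groth.Agent.EtaPt16.Basic
import Mathlib

/-!
# Structure of `M(A)` and of `rel f`
-/

universe u

namespace Groth.EtaPt16

open EtaPt

variable (η : FieldEndo.{u})
variable {A B : Type u} [CommRing A] [CommRing B]

/-- the prime of `M(A)` over `p` -/
noncomputable def Mpt (p : PrimeSpectrum A) : PrimeSpectrum (η.M A) :=
  ⟨RingHom.ker (evM η p), RingHom.ker_isPrime _⟩

lemma comap_Mpt (p : PrimeSpectrum A) : PrimeSpectrum.comap (η.q A) (Mpt η p) = p := by
  ext1
  show Ideal.comap (η.q A) (RingHom.ker (evM η p)) = p.asIdeal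
  rw [RingHom.comap_ker, evM_comp_q, RingHom.ker_comp_of_injective _ (RingHom.injective _), ker_res]

/-- every prime of `M(A)` is of the form `Mpt p` -/
lemma eq_Mpt (hA : (minimalPrimes A).Finite) (Q : PrimeSpectrum (η.M A)) :
    Q = Mpt η (PrimeSpectrum.comap (η.q A) Q) := by
  classical
  haveI := hA.fintype
  have hle : (Finset.univ.inf fun m : minimalPrimes A => RingHom.ker (evM η ⟨m.1, m.2.1.1⟩)) ≤
      Q.asIdeal := by
    intro x hx
    rw [Submodule.mem_finsetInf] at hx
    have : x = 0 := eq_zero_of_evM η fun p hp => hx ⟨p.asIdeal, hp⟩ (Finset.mem_univ _)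
    rw [this]; exact zero_mem _
  obtain ⟨m, -, hm⟩ := (Ideal.IsPrime.inf_le' Q.2).mp hle
  obtain ⟨p₀, hm⟩ : ∃ p₀ : PrimeSpectrum A, RingHom.ker (evM η p₀) ≤ Q.asIdeal := ⟨_, hm⟩
  let L := AlgebraicClosure p₀.asIdeal.ResidueField
  let ι : p₀.asIdeal.ResidueField →+* L := algebraMap _ L
  have hL : Function.Bijective (η.eta L) := bijective_eta_of_perfectField η _
  let e := RingEquiv.ofBijective (η.eta L) hL
  let h : η.M A →+* L := e.symm.toRingHom.comp ((η.map ι).comp (evM η p₀))
  have hh : ∀ x, η.eta L (h x) = η.map ι ((x : η.N A) p₀) := fun x => e.apply_symm_apply _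
  have hk : RingHom.ker h ≤ Q.asIdeal := fun x hx => hm <| by
    have hx' : h x = 0 := hx
    have := hh x
    rw [hx', map_zero] at this
    exact (map_eq_zero _).mp this.symm
  obtain ⟨V, g', hg', hQ⟩ := exists_valuation h Q hk
  have hcomp : h.comp (η.q A) = ι.comp (res p₀) := RingHom.ext fun a => hL.1 <| by
    show η.eta L (h (η.q A a)) = _
    rw [hh, coe_q]
    exact map_eta_apply η ι _
  ext1
  ext x
  obtain ⟨r, hr⟩ := (mem_M_iff η).mp x.2 V (inV_valuationSubring η hL V) (g'.comp (η.q A))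
  have h0 := hr _ V.subtype
  rw [← RingHom.comp_assoc, hg', hcomp, ev_eq η _ p₀ ι rfl, ← hh] at h0
  have hrx : r = g' x := Subtype.ext ((hL.1 h0).symm.trans (RingHom.congr_fun hg'.symm x))
  have h1 := hr _ (IsLocalRing.residue V)
  have hker : RingHom.ker ((IsLocalRing.residue V).comp (g'.comp (η.q A))) =
      (PrimeSpectrum.comap (η.q A) Q).asIdeal := by
    rw [← RingHom.comp_assoc, ← RingHom.comap_ker, hQ]; rfl
  constructor
  · intro hxQ
    refine (ev_eq_zero_iff η _ _ hker (x : η.N A)).mp ?_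
    rw [← hQ] at hxQ
    have hxQ' : IsLocalRing.residue V (g' x) = 0 := hxQ
    rw [h1, hrx, hxQ', map_zero]
  · intro hx0
    rw [(ev_eq_zero_iff η _ _ hker (x : η.N A)).mpr hx0, eq_comm, map_eq_zero, hrx] at h1
    rw [← hQ]; exact h1

lemma comap_q_bijective (hA : (minimalPrimes A).Finite) :
    Function.Bijective (PrimeSpectrum.comap (η.q A)) :=
  ⟨fun Q Q' h => by rw [eq_Mpt η hA Q, eq_Mpt η hA Q', h], fun p => ⟨_, comap_Mpt η p⟩⟩

/-- the residue field of a prime of `M(A)` maps to `F(k(p))` -/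
lemma exists_residue_ev (hA : (minimalPrimes A).Finite) (Q : PrimeSpectrum (η.M A)) :
    ∃ φ : Q.asIdeal.ResidueField →+* η.obj (PrimeSpectrum.comap (η.q A) Q).asIdeal.ResidueField,
      φ.comp (res Q) = evM η (PrimeSpectrum.comap (η.q A) Q) :=
  exists_lift Q _ (congrArg PrimeSpectrum.asIdeal (eq_Mpt η hA Q)).symm

lemma q_residue_factor (hA : (minimalPrimes A).Finite) (Q : PrimeSpectrum (η.M A)) :
    ∃ φ : Q.asIdeal.ResidueField →+* η.obj (PrimeSpectrum.comap (η.q A) Q).asIdeal.ResidueField,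
      φ.comp (Ideal.ResidueField.map (PrimeSpectrum.comap (η.q A) Q).asIdeal Q.asIdeal (η.q A) rfl) =
        η.eta (PrimeSpectrum.comap (η.q A) Q).asIdeal.ResidueField := by
  obtain ⟨φ, hφ⟩ := exists_residue_ev η hA Q
  refine ⟨φ, Ideal.ResidueField.ringHom_ext (RingHom.ext fun a => ?_)⟩
  refine (congrArg φ (Ideal.ResidueField.map_algebraMap _ _ (η.q A) rfl a)).trans ?_
  exact RingHom.congr_fun hφ (η.q A a)

lemma Nmap_q_bijective (hA : (minimalPrimes A).Finite) : Function.Bijective (η.Nmap (η.q A)) :=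
  Nmap_bijective_of_factor η _ (comap_q_bijective η hA) (q_residue_factor η hA)

lemma Nmap_q_eq_t (hA : (minimalPrimes A).Finite) (x : η.M A) :
    η.Nmap (η.q A) (x : η.N A) = η.t (η.M A) x := by
  funext Q
  obtain ⟨φ, hφ⟩ := exists_residue_ev η hA Q
  refine (η.map φ).injective ?_
  have h1 : η.map φ (η.Nmap (η.q A) (x : η.N A) Q) =
      ev η ((η.eta _).comp (res (PrimeSpectrum.comap (η.q A) Q))) (x : η.N A) := by
    rw [Nmap_apply_ev, ev_comp, ← RingHom.comp_assoc, hφ, evM_comp_q]
  rw [h1, ← ev_comp, ev_res, map_eta_eq]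
  refine Eq.symm ((map_eta_apply η φ (res Q x)).trans ?_)
  exact congrArg _ (RingHom.congr_fun hφ x)

/-- integral maps with bijective `N` satisfy the valuative lifting property -/
lemma exists_factor (f : A →+* B) (hf : f.IsIntegral) (hN : Function.Bijective (η.Nmap f))
    (R : Type u) [CommRing R] [IsDomain R] [ValuationRing R] (hR : η.InV R) (g : A →+* R) :
    ∃ g' : B →+* R, g'.comp f = g := by
  let L := FractionRing R
  let gL : A →+* L := (algebraMap R L).comp g
  obtain ⟨Q, hQ⟩ := (comap_bijective_of_Nmap_bijective η f hN).2 (kerPt gL)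
  obtain ⟨φ, hφ⟩ := factor_of_Nmap_bijective η f hN Q
  obtain ⟨α, hα⟩ := exists_lift (PrimeSpectrum.comap f Q) gL (by rw [hQ]; rfl)
  let e := RingEquiv.ofBijective (η.eta L) hR
  let h : B →+* L := e.symm.toRingHom.comp ((η.map α).comp (φ.comp (res Q)))
  have hf' : ∀ a, h (f a) = gL a := fun a => hR.1 <| by
    show e (e.symm (η.map α (φ (res Q (f a))))) = _
    rw [RingEquiv.apply_symm_apply]
    have h1 : φ (res Q (f a)) = η.eta _ (res (PrimeSpectrum.comap f Q) a) := by
      rw [← hφ]
      exact congrArg φ (Ideal.ResidueField.map_algebraMap _ _ f rfl a).symm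
    rw [h1, map_eta_apply, ← RingHom.comp_apply α, hα]
  have hmem : ∀ b, h b ∈ (algebraMap R L).range := fun b => by
    obtain ⟨P, hP, hPb⟩ := hf b
    refine IsIntegrallyClosed.isIntegral_iff.mp ⟨P.map g, hP.map g, ?_⟩
    rw [Polynomial.eval₂_map]
    have := congrArg h hPb
    rw [Polynomial.hom_eval₂, map_zero] at this
    rwa [show h.comp f = (algebraMap R L).comp g from RingHom.ext hf'] at this
  let ε := RingEquiv.ofBijective (algebraMap R L).rangeRestrict
    ⟨fun a b hab => IsFractionRing.injective R L (congrArg Subtype.val hab),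
      (algebraMap R L).rangeRestrict_surjective⟩
  refine ⟨ε.symm.toRingHom.comp (h.codRestrict _ hmem), RingHom.ext fun a => ?_⟩
  show ε.symm _ = g a
  rw [RingEquiv.symm_apply_eq]
  exact Subtype.ext (hf' a)

lemma exists_common_field {k K L : Type u} [Field k] [Field K] [Field L] (a : k →+* K) (b : k →+* L) :
    ∃ (E : Type u) (_ : Field E) (_ : IsAlgClosed E) (a' : K →+* E) (b' : L →+* E),
      a'.comp a = b'.comp b := by
  letI : Algebra k K := a.toAlgebra
  letI : Algebra k L := b.toAlgebra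
  obtain ⟨P, hP⟩ := Ideal.exists_maximal (TensorProduct k K L)
  let π : TensorProduct k K L →+* AlgebraicClosure P.ResidueField :=
    (algebraMap P.ResidueField (AlgebraicClosure P.ResidueField)).comp (algebraMap _ _)
  refine ⟨AlgebraicClosure P.ResidueField, inferInstance, inferInstance,
    π.comp Algebra.TensorProduct.includeLeftRingHom,
    π.comp Algebra.TensorProduct.includeRight.toRingHom, RingHom.ext fun c => ?_⟩
  exact congrArg π (((Algebra.TensorProduct.includeLeft : K →ₐ[k] TensorProduct k K L).commutes c).trans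
    (Algebra.TensorProduct.includeRight.commutes c).symm)

lemma exists_prime_over_of_isLocalHom {R V : Type u} [CommRing R] [IsDomain R] [ValuationRing R]
    [CommRing V] [IsDomain V] [IsLocalRing V] (τ : R →+* V) (hi : Function.Injective τ)
    (hloc : IsLocalHom τ) (P : PrimeSpectrum R) : ∃ P', PrimeSpectrum.comap τ P' = P := by
  letI : Algebra R V := τ.toAlgebra
  haveI : IsLocalHom (algebraMap R V) := hloc
  haveI : Module.IsTorsionFree R V := Module.isTorsionFree_iff_algebraMap_injective.mpr hi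
  haveI : Module.Flat R V := Module.Flat.flat_iff_torsion_eq_bot_of_isBezout.mpr
    (Submodule.isTorsionFree_iff_torsion_eq_bot.mp inferInstance)
  haveI : Module.FaithfullyFlat R V := Module.FaithfullyFlat.of_flat_of_isLocalHom
  exact PrimeSpectrum.comap_surjective_of_faithfullyFlat P

/-- membership in `M` descends along a dominant extension of valuation rings -/
lemma exists_mem_of_extension {R : Type u} [CommRing R] [IsDomain R] [ValuationRing R]
    (hR : η.InV R) {E : Type u} [Field E] (hE : Function.Bijective (η.eta E))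
    (j : FractionRing R →+* E) (V : ValuationSubring E) (τ : R →+* V)
    (hτ : ∀ a, (τ a : E) = j (algebraMap R _ a)) (hloc : IsLocalHom τ)
    (x : η.N R) (r' : V) (hr : η.Nmap τ x = η.t V r') : ∃ r, x = η.t R r := by
  obtain ⟨r0, hr0⟩ := hR.2 (ev η (algebraMap R (FractionRing R)) x)
  have hev : ∀ (K : Type u) [Field K] (ψ : V →+* K),
      ev η (ψ.comp τ) x = η.eta K (ψ r') := fun K _ ψ => by rw [← ev_Nmap, hr, ev_t]
  have hjr : j r0 = r' := hE.1 <| by
    rw [← map_eta_apply, hr0, ev_comp, show j.comp (algebraMap R _) = V.subtype.comp τ from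
      RingHom.ext fun a => (hτ a).symm]
    exact hev _ V.subtype
  obtain ⟨r, hr1⟩ : IsLocalization.IsInteger R r0 := by
    by_contra hno
    obtain ⟨s, hs'⟩ := (ValuationRing.isInteger_or_isInteger R r0).resolve_left hno
    have hr00 : r0 ≠ 0 := fun h0 => hno ⟨0, by rw [map_zero, h0]⟩
    have hu : IsUnit (τ s) :=
      isUnit_iff_exists_inv.mpr ⟨r', Subtype.ext (show (τ s : E) * (r' : E) = 1 by
        rw [hτ, hs', ← hjr, ← map_mul, inv_mul_cancel₀ hr00, map_one])⟩
    obtain ⟨w, hw⟩ := isUnit_iff_exists_inv.mp (hloc.map_nonunit _ hu)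
    refine hno ⟨w, ?_⟩
    have := congrArg (algebraMap R (FractionRing R)) hw
    rw [map_mul, hs', map_one, inv_mul_eq_one₀ hr00] at this
    exact this.symm
  have hτr : τ r = r' := Subtype.ext (by rw [hτ, hr1, hjr])
  have hτi : Function.Injective τ := fun a b hab =>
    IsFractionRing.injective R (FractionRing R) (j.injective (by rw [← hτ, ← hτ, hab]))
  refine ⟨r, funext fun P => ?_⟩
  obtain ⟨P', rfl⟩ := exists_prime_over_of_isLocalHom τ hτi hloc P
  refine (η.map (Ideal.ResidueField.map _ _ τ rfl)).injective ?_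
  have e1 := congrFun hr P'
  rw [← hτr, ← η.Nmap_t_apply] at e1
  exact e1

/-- membership in `M` is tested after an integral extension with surjective spectrum -/
lemma mem_M_of_Nmap_mem (f : A →+* B) (hf : f.IsIntegral)
    (hs : Function.Surjective (PrimeSpectrum.comap f)) {x : η.N A} (hx : η.Nmap f x ∈ η.M B) :
    x ∈ η.M A := by
  intro R _ _ _ hR g
  let gL : A →+* FractionRing R := (algebraMap R _).comp g
  obtain ⟨Q, hQ⟩ := hs (kerPt gL)
  obtain ⟨α, hα⟩ := exists_lift (PrimeSpectrum.comap f Q) gL (by rw [hQ]; rfl)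
  obtain ⟨E, _, _, β, j, hβj⟩ := exists_common_field
    (Ideal.ResidueField.map (PrimeSpectrum.comap f Q).asIdeal Q.asIdeal f rfl) α
  let h : B →+* E := β.comp (res Q)
  have hf' : h.comp f = j.comp gL := by
    refine RingHom.ext fun a => ?_
    show β (res Q (f a)) = j (gL a)
    rw [← hα, show res Q (f a) = Ideal.ResidueField.map (PrimeSpectrum.comap f Q).asIdeal Q.asIdeal f
      rfl (res (PrimeSpectrum.comap f Q) a) from
      (Ideal.ResidueField.map_algebraMap _ _ f rfl a).symm]
    exact RingHom.congr_fun hβj _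
  obtain ⟨V, hV, hloc⟩ := IsLocalRing.exists_factor_valuationRing (j.comp (algebraMap R _))
  let τ : R →+* V := (j.comp (algebraMap R _)).codRestrict V.toSubring hV
  have hmem : ∀ b, h b ∈ V.toSubring := fun b => by
    obtain ⟨p, hp, hpb⟩ := hf b
    have he := congrArg h hpb
    rw [Polynomial.hom_eval₂, map_zero, hf'] at he
    obtain ⟨y, hy⟩ := (IsIntegrallyClosed.isIntegral_iff (R := V) (K := E) (x := h b)).mp
      ⟨p.map (τ.comp g), hp.map _, by rw [Polynomial.eval₂_map]; exact he⟩
    rw [← hy]; exact y.2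
  have hE : Function.Bijective (η.eta E) := bijective_eta_of_perfectField η _
  obtain ⟨r', hr'⟩ := hx V (inV_valuationSubring η hE V) (h.codRestrict V.toSubring hmem)
  have hcomm : (h.codRestrict V.toSubring hmem).comp f = τ.comp g :=
    RingHom.ext fun a => Subtype.ext (RingHom.congr_fun hf' a)
  have e : η.Nmap τ (η.Nmap g x) = η.t V r' := by
    rw [Nmap_Nmap, ← hcomm, ← Nmap_Nmap]
    exact hr'.symm
  obtain ⟨r, hr⟩ := exists_mem_of_extension η hR hE j V τ (fun _ => rfl) hloc (η.Nmap g x) r' e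
  exact ⟨r, hr.symm⟩

lemma Nmap_bijOn (f : A →+* B) (hf : f.IsIntegral) (hN : Function.Bijective (η.Nmap f)) :
    Set.BijOn (η.Nmap f) (η.M A) (η.M B) := by
  refine ⟨fun x hx => Nmap_mem_M η f hx, hN.1.injOn, fun y hy => ?_⟩
  obtain ⟨x, rfl⟩ := hN.2 y
  exact ⟨x, mem_M_of_Nmap_mem η f hf (comap_bijective_of_Nmap_bijective η f hN).2 hy, rfl⟩

lemma Mmap_bijective (f : A →+* B) (hf : f.IsIntegral) (hN : Function.Bijective (η.Nmap f)) :
    Function.Bijective (Mmap η f) := by
  obtain ⟨_, hi, hs⟩ := Nmap_bijOn η f hf hN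
  refine ⟨fun a b hab => Subtype.ext (hN.1 (congrArg Subtype.val hab)), fun y => ?_⟩
  obtain ⟨x, hx, hxy⟩ := hs y.2
  exact ⟨⟨x, hx⟩, Subtype.ext hxy⟩

lemma t_eq_Nmap_of_Nmap_bijective (hA : (minimalPrimes A).Finite) (f : A →+* B)
    (hN : Function.Bijective (η.Nmap f)) (g : B →+* η.M A) (hg : g.comp f = η.q A) (b : B) :
    η.Nmap f (g b : η.N A) = η.t B b := by
  have h1 : Function.Bijective (η.Nmap g) := by
    have := Nmap_q_bijective η hA
    rw [← hg, Nmap_comp, RingHom.coe_comp] at this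
    exact (Function.Bijective.of_comp_iff _ hN).mp this
  refine h1.1 ?_
  rw [Nmap_Nmap, hg, Nmap_q_eq_t η hA, η.Nmap_t_apply]

lemma existsUnique_lift (hA : (minimalPrimes A).Finite) (g : A →+* B)
    (hg : g.IsIntegral) (hN : Function.Bijective (η.Nmap g)) :
    ∃! g' : B →+* η.M A, g'.comp g = η.q A := by
  let e := RingEquiv.ofBijective (Mmap η g) (Mmap_bijective η g hg hN)
  refine ⟨e.symm.toRingHom.comp (η.q B), RingHom.ext fun a => e.injective ?_, fun g'' hg'' => ?_⟩
  · show e (e.symm (η.q B (g a))) = _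
    rw [RingEquiv.apply_symm_apply]
    exact (RingHom.congr_fun (Mmap_q η g) a).symm
  · refine RingHom.ext fun b => e.injective ?_
    show _ = e (e.symm (η.q B b))
    rw [RingEquiv.apply_symm_apply]
    exact Subtype.ext (t_eq_Nmap_of_Nmap_bijective η hA g hN g'' hg'' b)

lemma bijective_of_reduced (hA : (minimalPrimes A).Finite) [IsReduced B] (f : η.M A →+* B)
    (hf : f.IsIntegral) (hN : Function.Bijective (η.Nmap f)) : Function.Bijective f := by
  have hf' : (f.comp (η.q A)).IsIntegral := (q_isIntegral η hA).trans _ _ hf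
  have hN' : Function.Bijective (η.Nmap (f.comp (η.q A))) := by
    rw [Nmap_comp]; exact hN.comp (Nmap_q_bijective η hA)
  obtain ⟨g', hg', -⟩ := existsUnique_lift η hA (f.comp (η.q A)) hf' hN'
  have hid : g'.comp f = RingHom.id _ :=
    (existsUnique_lift η hA (η.q A) (q_isIntegral η hA) (Nmap_q_bijective η hA)).unique
      (by rw [RingHom.comp_assoc]; exact hg') (RingHom.id_comp _)
  have hg'i : Function.Injective g' := by
    refine (injective_iff_map_eq_zero _).mpr fun b hb => t_injective η ?_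
    rw [← t_eq_Nmap_of_Nmap_bijective η hA _ hN' g' hg' b, hb, map_zero]
    exact map_zero _
  refine ⟨Function.LeftInverse.injective (g := g') (RingHom.congr_fun hid),
    fun b => ⟨g' b, hg'i ?_⟩⟩
  exact RingHom.congr_fun hid (g' b)

lemma q_M_bijective (hA : (minimalPrimes A).Finite) : Function.Bijective (η.q (η.M A)) := by
  have h := Mmap_bijective η (η.q A) (q_isIntegral η hA) (Nmap_q_bijective η hA)
  rwa [show ⇑(Mmap η (η.q A)) = η.q (η.M A) from funext fun x =>
    Subtype.ext (Nmap_q_eq_t η hA x)] at h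

lemma mem_M_of_field {K : Type u} [Field K] (x : η.N K) : x ∈ η.M K := by
  refine mem_M_of_Nmap_mem η (η.eta K) (fun y => ?_) (fun p => ⟨⟨⊥, Ideal.isPrime_bot⟩,
    PrimeSpectrum.ext ((Ideal.eq_bot_of_prime _).trans p.asIdeal.eq_bot_of_prime.symm)⟩) ?_
  · obtain ⟨n, c, hc⟩ := η.exists_pow_mem_range_eta K y
    refine ⟨Polynomial.X ^ (ringExpChar K ^ n) - Polynomial.C c,
      Polynomial.monic_X_pow_sub_C c (pow_ne_zero n ?_), ?_⟩
    · exact (lt_of_lt_of_le Nat.one_pos (le_max_right _ _)).ne'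
    · simp [hc]
  · let o : PrimeSpectrum (η.obj K) := ⟨⊥, Ideal.isPrime_bot⟩
    have hres : Function.Bijective (res o) :=
      ⟨RingHom.injective _, Ideal.algebraMap_residueField_surjective _⟩
    obtain ⟨w, hw⟩ := (bijective_eta_of_bijective η _ hres (bijective_eta_obj η K)).2
      (η.Nmap (η.eta K) x o)
    obtain ⟨z, rfl⟩ := hres.2 w
    have : η.Nmap (η.eta K) x = η.t (η.obj K) z := funext fun P => by
      obtain rfl : P = o := PrimeSpectrum.ext P.asIdeal.eq_bot_of_prime
      exact hw.symm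
    rw [this]
    exact η.t_mem_M _ _

end Groth.EtaPt16
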