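import Groth.Agent.EtaPt16.Special

universe u

namespace Groth.EtaPt16

open EtaPt

variable (η : FieldEndo.{u})

lemma qRel_normalization {A A' K K' : Type u} [CommRing A] [CommRing A'] [CommRing K] [CommRing K']
    [Algebra A A'] [Module.FaithfullyFlat A A'] [Algebra A K] [IsFractionRing A K] [Algebra A' K']
    [IsFractionRing A' K']
    (h : Function.Bijective (η.qRel (algebraMap A' (integralClosure A' K')))) :
    Function.Bijective (η.qRel (algebraMap A (integralClosure A K))) := by
  rw [qRel_bijective_iff] at h ⊢
  have hnzd : ∀ s ∈ nonZeroDivisors A, algebraMap A A' s ∈ nonZeroDivisors A' := fun s hs => by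
    rw [mem_nonZeroDivisors_iff_right]
    intro z hz
    refine (Module.Flat.isSMulRegular_of_nonZeroDivisors (M := A') hs) ?_
    simp only [smul_zero]
    rw [Algebra.smul_def, mul_comm, hz]
  let i : K →+* K' := IsLocalization.lift (M := nonZeroDivisors A)
    (g := (algebraMap A' K').comp (algebraMap A A'))
    (fun s => IsLocalization.map_units K' ⟨_, hnzd s.1 s.2⟩)
  have hi : i.comp (algebraMap A _) = (algebraMap A' K').comp (algebraMap A A') :=
    IsLocalization.lift_comp _
  have hii : ∀ x : integralClosure A (K), i x ∈ integralClosure A' K' := by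
    rintro ⟨x, P, hP, hPx⟩
    refine ⟨P.map (algebraMap A A'), hP.map _, ?_⟩
    rw [Polynomial.eval₂_map]
    have := congrArg i hPx
    rwa [Polynomial.hom_eval₂, map_zero, hi] at this
  let g : integralClosure A (K) →+* integralClosure A' K' :=
    (i.comp (integralClosure A (K)).val.toRingHom).codRestrict _ hii
  refine ⟨fun a b hab => IsFractionRing.injective A (K) (congrArg Subtype.val hab),
    fun b hb => ?_⟩
  obtain ⟨a', ha'⟩ := h.2 (g b) (map_mem_rel' η (algebraMap A (integralClosure A K))
    (algebraMap A' (integralClosure A' K')) (algebraMap A A') g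
    (RingHom.ext fun a => Subtype.ext (RingHom.congr_fun hi a)) hb)
  obtain ⟨⟨c, s⟩, hcs⟩ := IsLocalization.surj (nonZeroDivisors A) (b : K)
  -- `c ∈ s A'`, hence `c ∈ s A`
  have h1 : algebraMap A A' c = a' * algebraMap A A' s := IsFractionRing.injective A' K' <| by
    have := congrArg i hcs
    rw [map_mul, ← RingHom.comp_apply i (algebraMap A _), ← RingHom.comp_apply i (algebraMap A _), hi] at this
    rw [map_mul, show algebraMap A' K' a' = i b from congrArg Subtype.val ha']
    exact this.symm
  obtain ⟨d, hd⟩ : c ∈ Ideal.span {(s : A)} |> fun _ => ∃ d, c = d * s := by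
    have h2 : c ∈ Ideal.comap (algebraMap A A') ((Ideal.span {(s : A)}).map (algebraMap A A')) := by
      rw [Ideal.mem_comap, h1, Ideal.map_span, Set.image_singleton]
      exact Ideal.mul_mem_left _ _ (Ideal.mem_span_singleton_self _)
    rw [Ideal.comap_map_eq_self_of_faithfullyFlat, Ideal.mem_span_singleton'] at h2
    obtain ⟨d, hd⟩ := h2
    exact ⟨d, hd.symm⟩
  refine ⟨d, Subtype.ext ((IsLocalization.map_units (K) s).mul_left_inj.mp ?_)⟩
  rw [hcs, hd, map_mul]
  rfl


end Groth.EtaPt16
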