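import Groth.Agent.EtaPt16.Main

/-!
# The relative ring `rel f`
-/

universe u

namespace Groth.EtaPt16

open EtaPt

variable (η : FieldEndo.{u})
variable {A B : Type u} [CommRing A] [CommRing B]

lemma mem_rel_iff (f : A →+* B) (b : B) :
    b ∈ η.rel f ↔ ∃ x ∈ η.M A, η.Nmap f x = η.t B b := Iff.rfl

lemma exists_relHom (f : A →+* B) (hs : Function.Surjective (PrimeSpectrum.comap f)) :
    ∃ h : η.rel f →+* η.M A,
      (∀ b : η.rel f, η.Nmap f (h b : η.N A) = η.t B (b : B)) ∧ h.comp (η.qRel f) = η.q A := by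
  have hi := Nmap_injective η f hs
  let e := Subring.equivMapOfInjective (η.M A) (η.Nmap f) hi
  let k : η.rel f →+* (η.M A).map (η.Nmap f) :=
    ((η.t B).comp (η.rel f).subtype).codRestrict _ fun b => b.2
  have hk : ∀ b : η.rel f, η.Nmap f ((e.symm.toRingHom.comp k) b : η.N A) = η.t B (b : B) := fun b => by
    show η.Nmap f (e.symm (k b) : η.N A) = _
    rw [← Subring.coe_equivMapOfInjective_apply (η.M A) (η.Nmap f) hi, RingEquiv.apply_symm_apply]
    rfl
  refine ⟨_, hk, RingHom.ext fun a => Subtype.ext (hi ?_)⟩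
  rw [RingHom.comp_apply, hk, coe_q, η.Nmap_t_apply]
  rfl

lemma relHom_eq_zero (f : A →+* B) (h : η.rel f →+* η.M A)
    (hh : ∀ b : η.rel f, η.Nmap f (h b : η.N A) = η.t B (b : B)) {b : η.rel f} (hb : h b = 0) :
    IsNilpotent b := by
  have := hh b
  rw [hb, ZeroMemClass.coe_zero, map_zero, eq_comm, t_eq_zero_iff] at this
  obtain ⟨n, hn⟩ := this
  exact ⟨n, Subtype.ext (by simpa using hn)⟩

lemma qRel_isIntegral (hA : (minimalPrimes A).Finite) (f : A →+* B)
    (hs : Function.Surjective (PrimeSpectrum.comap f)) : (η.qRel f).IsIntegral := by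
  obtain ⟨h, hh, hq⟩ := exists_relHom η f hs
  intro b
  obtain ⟨P, hP, hPb⟩ := q_isIntegral η hA (h b)
  rw [← hq, ← Polynomial.hom_eval₂] at hPb
  obtain ⟨n, hn⟩ := relHom_eq_zero η f h hh hPb
  exact ⟨P ^ n, hP.pow n, by rw [Polynomial.eval₂_pow, hn]⟩

/-- every prime of `rel f` is cut out by `M(A)` -/
lemma eq_relPt (hA : (minimalPrimes A).Finite) (f : A →+* B) (h : η.rel f →+* η.M A)
    (hh : ∀ b : η.rel f, η.Nmap f (h b : η.N A) = η.t B (b : B))
    (hq : h.comp (η.qRel f) = η.q A) (Q : PrimeSpectrum (η.rel f)) :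
    PrimeSpectrum.comap h (Mpt η (PrimeSpectrum.comap (η.qRel f) Q)) = Q := by
  have hint : h.IsIntegral := by
    have := q_isIntegral η hA
    rw [← hq] at this
    exact RingHom.IsIntegral.tower_top _ _ this
  obtain ⟨Q', hQ'⟩ : ∃ Q', PrimeSpectrum.comap h Q' = Q := by
    letI : Algebra (η.rel f) (η.M A) := h.toAlgebra
    haveI : Algebra.IsIntegral (η.rel f) (η.M A) := ⟨hint⟩
    obtain ⟨P, -, hP, hPQ⟩ := Ideal.exists_ideal_over_prime_of_isIntegral (S := η.M A)
      Q.asIdeal ⊥ fun b hb => by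
        obtain ⟨n, hn⟩ := relHom_eq_zero η f h hh hb
        exact Q.2.mem_of_pow_mem n (hn ▸ zero_mem _)
    exact ⟨⟨P, hP⟩, PrimeSpectrum.ext hPQ⟩
  rw [← hQ', ← PrimeSpectrum.comap_comp_apply, hq, ← eq_Mpt η hA]

lemma qRel_comap_bijective (hA : (minimalPrimes A).Finite) (f : A →+* B)
    (hs : Function.Surjective (PrimeSpectrum.comap f)) :
    Function.Bijective (PrimeSpectrum.comap (η.qRel f)) := by
  obtain ⟨h, hh, hq⟩ := exists_relHom η f hs
  refine ⟨fun Q Q' e => ?_, fun p => ⟨PrimeSpectrum.comap h (Mpt η p), ?_⟩⟩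
  · rw [← eq_relPt η hA f h hh hq Q, e, eq_relPt η hA f h hh hq Q']
  · rw [← PrimeSpectrum.comap_comp_apply, hq, comap_Mpt]

lemma qRel_residue_factor (hA : (minimalPrimes A).Finite) (f : A →+* B)
    (hs : Function.Surjective (PrimeSpectrum.comap f)) (Q : PrimeSpectrum (η.rel f)) :
    ∃ φ : Q.asIdeal.ResidueField →+* η.obj (PrimeSpectrum.comap (η.qRel f) Q).asIdeal.ResidueField,
      φ.comp (Ideal.ResidueField.map (PrimeSpectrum.comap (η.qRel f) Q).asIdeal Q.asIdeal
          (η.qRel f) rfl) =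
        η.eta (PrimeSpectrum.comap (η.qRel f) Q).asIdeal.ResidueField := by
  obtain ⟨h, hh, hq⟩ := exists_relHom η f hs
  set p := PrimeSpectrum.comap (η.qRel f) Q with hp
  obtain ⟨φ, hφ⟩ := exists_lift Q ((evM η p).comp h) (by
    rw [← RingHom.comap_ker]
    exact congrArg PrimeSpectrum.asIdeal (eq_relPt η hA f h hh hq Q))
  refine ⟨φ, Ideal.ResidueField.ringHom_ext (RingHom.ext fun a => ?_)⟩
  refine (congrArg φ (Ideal.ResidueField.map_algebraMap _ _ (η.qRel f) rfl a)).trans ?_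
  refine (RingHom.congr_fun hφ (η.qRel f a)).trans ?_
  show evM η p (h (η.qRel f a)) = _
  rw [← RingHom.comp_apply h, hq]
  rfl

lemma Nmap_qRel_bijective (hA : (minimalPrimes A).Finite) (f : A →+* B)
    (hs : Function.Surjective (PrimeSpectrum.comap f)) : Function.Bijective (η.Nmap (η.qRel f)) :=
  Nmap_bijective_of_factor η _ (qRel_comap_bijective η hA f hs) (qRel_residue_factor η hA f hs)

lemma range_le_rel {C : Type u} [CommRing C] (f₁ : A →+* B) (f₂ : B →+* C) (h₁ : f₁.IsIntegral)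
    (hN : Function.Bijective (η.Nmap f₁)) : f₂.range ≤ η.rel (f₂.comp f₁) := by
  rintro _ ⟨b, rfl⟩
  obtain ⟨x, hx, hxb⟩ := (Nmap_bijOn η f₁ h₁ hN).2.2 (η.t_mem_M B b)
  exact ⟨x, hx, by rw [← Nmap_Nmap, hxb, η.Nmap_t_apply]⟩

/-- functoriality of `rel` in commutative squares -/
lemma map_mem_rel' {A' B' : Type u} [CommRing A'] [CommRing B'] (f : A →+* B) (f' : A' →+* B')
    (i : A →+* A') (g : B →+* B') (hc : g.comp f = f'.comp i) {b : B} (hb : b ∈ η.rel f) :
    g b ∈ η.rel f' := by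
  obtain ⟨x, hx, hxb⟩ := hb
  exact ⟨η.Nmap i x, Nmap_mem_M η i hx, by
    rw [Nmap_Nmap, ← hc, ← Nmap_Nmap, hxb, η.Nmap_t_apply]⟩

lemma qRel_injective_iff (f : A →+* B) : Function.Injective (η.qRel f) ↔ Function.Injective f :=
  ⟨fun h _ _ e => h (Subtype.ext e), fun h _ _ e => h (congrArg Subtype.val e)⟩

lemma qRel_bijective_iff (f : A →+* B) :
    Function.Bijective (η.qRel f) ↔
      Function.Injective f ∧ ∀ b ∈ η.rel f, ∃ a, f a = b := by
  refine ⟨fun h => ⟨(qRel_injective_iff η f).mp h.1, fun b hb => ?_⟩, fun h =>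
    ⟨(qRel_injective_iff η f).mpr h.1, fun b => ?_⟩⟩
  · obtain ⟨a, ha⟩ := h.2 ⟨b, hb⟩
    exact ⟨a, congrArg Subtype.val ha⟩
  · obtain ⟨a, ha⟩ := h.2 b b.2
    exact ⟨a, Subtype.ext ha⟩

lemma rel_integralClosure [Algebra A B] (hA : (minimalPrimes A).Finite)
    (hs : Function.Surjective (PrimeSpectrum.comap (algebraMap A B))) :
    (η.rel (algebraMap A (integralClosure A B))).map (integralClosure A B).val.toRingHom =
      η.rel (algebraMap A B) := by
  refine le_antisymm ?_ fun b hb => ?_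
  · rintro _ ⟨c, hc, rfl⟩
    exact map_mem_rel' η _ _ (RingHom.id A) (integralClosure A B).val.toRingHom rfl hc
  · have hbi : IsIntegral A b := by
      obtain ⟨P, hP, hPb⟩ := qRel_isIntegral η hA _ hs ⟨b, hb⟩
      refine ⟨P, hP, ?_⟩
      have := congrArg (η.rel (algebraMap A B)).subtype hPb
      rw [Polynomial.hom_eval₂, map_zero] at this
      exact this
    obtain ⟨x, hx, hxb⟩ := hb
    refine ⟨⟨b, hbi⟩, ⟨x, hx, ?_⟩, rfl⟩
    set C := integralClosure A B
    refine (sub_eq_zero.mp (eq_zero_of_minimalPrimes η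
      (sub_mem (Nmap_mem_M η _ hx) (η.t_mem_M C ⟨b, hbi⟩)) fun p hp => ?_))
    obtain ⟨Q, hQ, hQp⟩ := Ideal.exists_comap_eq_of_mem_minimalPrimes_of_injective
      (f := C.val.toRingHom) Subtype.val_injective p.asIdeal hp
    obtain rfl : PrimeSpectrum.comap C.val.toRingHom ⟨Q, hQ⟩ = p := PrimeSpectrum.ext hQp
    have e : η.Nmap C.val.toRingHom (η.Nmap (algebraMap A C) x - η.t C ⟨b, hbi⟩) = 0 := by
      rw [map_sub, Nmap_Nmap, η.Nmap_t_apply]
      exact sub_eq_zero.mpr hxb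
    exact (ev_eq_zero_iff η _ _ (by rw [← RingHom.comap_ker, ker_res]; rfl) _).mp
      ((Nmap_apply_ev η _ _ _).symm.trans (congrFun e ⟨Q, hQ⟩))

lemma qRel_comp {C : Type u} [CommRing C] (f : A →+* B) (g : B →+* C)
    (hg : Function.Surjective (PrimeSpectrum.comap g)) :
    (Function.Bijective (η.qRel f) → Function.Bijective (η.qRel g) →
        Function.Bijective (η.qRel (g.comp f))) ∧
      (Function.Injective g → Function.Bijective (η.qRel (g.comp f)) →
        Function.Bijective (η.qRel f)) := by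
  simp only [qRel_bijective_iff]
  refine ⟨fun hf hg' => ⟨hg'.1.comp hf.1, fun c ⟨x, hx, hxc⟩ => ?_⟩, fun hgi h =>
    ⟨h.1.of_comp (f := g), fun b hb => ?_⟩⟩
  · obtain ⟨b, rfl⟩ := hg'.2 c ⟨η.Nmap f x, Nmap_mem_M η f hx, by rw [Nmap_Nmap]; exact hxc⟩
    rw [← η.Nmap_t_apply, ← Nmap_Nmap] at hxc
    obtain ⟨a, rfl⟩ := hf.2 b ⟨x, hx, Nmap_injective η g hg hxc⟩
    exact ⟨a, rfl⟩
  · obtain ⟨a, ha⟩ := h.2 (g b) (map_mem_rel' η f (g.comp f) (RingHom.id A) g rfl hb)
    exact ⟨a, hgi ha⟩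

lemma qRel_cartesian {A' B' : Type u} [CommRing A'] [CommRing B']
    (j : A →+* B) (f : A →+* A') (g : B →+* B') (j' : A' →+* B') (hcomm : j'.comp f = g.comp j)
    (hcart : ∀ (a' : A') (b : B), j' a' = g b → ∃! a : A, f a = a' ∧ j a = b)
    (h : Function.Bijective (η.qRel j')) : Function.Bijective (η.qRel j) := by
  rw [qRel_bijective_iff] at h ⊢
  refine ⟨fun a b hab => ?_, fun b hb => ?_⟩
  · have e : ∀ a, j' (f a) = g (j a) := RingHom.congr_fun hcomm
    exact (hcart (f a) (j a) (e a)).unique ⟨rfl, rfl⟩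
      ⟨h.1 (by rw [e, e, hab]), hab.symm⟩
  · obtain ⟨a', ha'⟩ := h.2 (g b) (map_mem_rel' η j j' f g hcomm.symm hb)
    obtain ⟨a, ⟨-, ha⟩, -⟩ := hcart a' b ha'
    exact ⟨a, ha⟩

open TensorProduct in
lemma qRel_of_faithfullyFlat {A' : Type u} [CommRing A'] [Algebra A A'] [Algebra A B]
    [Module.FaithfullyFlat A A']
    (h : Function.Bijective (η.qRel (Algebra.TensorProduct.includeLeftRingHom : A' →+* A' ⊗[A] B))) :
    Function.Bijective (η.qRel (algebraMap A B)) := by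
  rw [qRel_bijective_iff] at h ⊢
  let l : A →ₗ[A] B := Algebra.linearMap A B
  have hl : Function.Injective (l.lTensor A') := by
    intro u v huv
    obtain ⟨a, rfl⟩ := (TensorProduct.rid A A').symm.surjective u
    obtain ⟨a', rfl⟩ := (TensorProduct.rid A A').symm.surjective v
    have : a = a' := h.1 (by simpa [l] using huv)
    rw [this]
  refine ⟨(Module.FaithfullyFlat.lTensor_injective_iff_injective A A' l).mp hl, fun b hb => ?_⟩
  obtain ⟨a', ha'⟩ := h.2 ((Algebra.TensorProduct.includeRight : B →ₐ[A] A' ⊗[A] B) b)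
    (map_mem_rel' η (algebraMap A B) _ (algebraMap A A') _ (RingHom.ext fun a => by
      show (1 : A') ⊗ₜ[A] (algebraMap A B a) = algebraMap A A' a ⊗ₜ[A] (1 : B)
      rw [Algebra.algebraMap_eq_smul_one, Algebra.algebraMap_eq_smul_one, TensorProduct.smul_tmul]) hb)
  -- the class of `b` in `B ⧸ A` dies after the faithfully flat extension
  let m := (LinearMap.range l).mkQ
  have hm : (1 : A') ⊗ₜ[A] (m b) = 0 := by
    have := congrArg (m.lTensor A') ha'
    change (m.lTensor A') (a' ⊗ₜ[A] (1 : B)) = (m.lTensor A') ((1 : A') ⊗ₜ[A] b) at this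
    rw [LinearMap.lTensor_tmul, LinearMap.lTensor_tmul] at this
    rw [← this, show m (1 : B) = 0 from (Submodule.Quotient.mk_eq_zero _).mpr ⟨1, by simp [l]⟩,
      TensorProduct.tmul_zero]
  obtain ⟨a, ha⟩ := (Submodule.Quotient.mk_eq_zero _).mp
    ((Module.FaithfullyFlat.tensorProduct_mk_injective (A := A) (B := A') (B ⧸ LinearMap.range l))
      (hm.trans (TensorProduct.tmul_zero _ _).symm) : m b = 0)
  exact ⟨a, ha⟩

end Groth.EtaPt16
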