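import Groth.Agent.EtaPt16.Rel
import Groth.Agent.HTopHyper.ResidueIso

/-!
# The identity endofunctor: seminormalization
-/

universe u

open CategoryTheory AlgebraicGeometry

namespace Groth.EtaPt16

open EtaPt

variable {A C : Type u} [CommRing A] [CommRing C]

lemma residue_map_surjective_of_resSurj (f : A →+* C) (h : Groth.HTopHyper.ResSurj f)
    (Q : PrimeSpectrum C) :
    Function.Surjective
      (Ideal.ResidueField.map (PrimeSpectrum.comap f Q).asIdeal Q.asIdeal f rfl) := by
  have key : ∀ c : C, res Q c ∈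
      (Ideal.ResidueField.map (PrimeSpectrum.comap f Q).asIdeal Q.asIdeal f rfl).fieldRange := by
    intro c
    obtain ⟨a, s, hs, has⟩ := h Q.asIdeal Q.2 c
    rw [← Ideal.algebraMap_residueField_eq_zero, map_sub, map_mul, sub_eq_zero] at has
    have hs' : res Q (f s) ≠ 0 := fun h0 => hs (Ideal.algebraMap_residueField_eq_zero.mp h0)
    have : res Q c = res Q (f a) / res Q (f s) := by
      rw [eq_div_iff hs', mul_comm]; exact has
    rw [this]
    exact div_mem ⟨_, Ideal.ResidueField.map_algebraMap _ _ f rfl a⟩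
      ⟨_, Ideal.ResidueField.map_algebraMap _ _ f rfl s⟩
  intro z
  obtain ⟨x, y, _, rfl⟩ := IsFractionRing.div_surjective (C ⧸ Q.asIdeal) z
  obtain ⟨x, rfl⟩ := Ideal.Quotient.mk_surjective x
  obtain ⟨y, rfl⟩ := Ideal.Quotient.mk_surjective y
  simp only [Ideal.algebraMap_quotient_residueField_mk]
  exact div_mem (key x) (key y)

/-- universal homeomorphisms with trivial residue extensions are the integral maps with bijective `N` -/
lemma ident_univHomeo_iff (f : A →+* C) :
    (FlatMor.IsUnivHomeo (Spec.map (CommRingCat.ofHom f)) ∧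
        HTop.ResidueFieldsIso (Spec.map (CommRingCat.ofHom f))) ↔
      f.IsIntegral ∧ Function.Bijective ((FieldEndo.ident.{u}).Nmap f) := by
  constructor
  · intro ⟨h1, h2⟩
    have hint := ((Groth.HTopHyper.specUnivHomeo_iff f).mp h1).1
    have hr := (Groth.HTopHyper.residueFieldsIso_SpecMap_iff f).mp h2
    have hb : Function.Bijective (PrimeSpectrum.comap f) :=
      (h1 (𝟙 _) (𝟙 _) (Spec.map (CommRingCat.ofHom f)) (CategoryTheory.IsPullback.of_vert_isIso ⟨by simp⟩)).bijective
    refine ⟨hint, Nmap_bijective_of_factor FieldEndo.ident f hb fun Q => ?_⟩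
    let e := RingEquiv.ofBijective
      (Ideal.ResidueField.map (PrimeSpectrum.comap f Q).asIdeal Q.asIdeal f rfl)
      ⟨RingHom.injective _, residue_map_surjective_of_resSurj f hr Q⟩
    exact ⟨e.symm.toRingHom, RingHom.ext e.symm_apply_apply⟩
  · intro ⟨hint, hN⟩
    have hb := comap_bijective_of_Nmap_bijective FieldEndo.ident f hN
    have hsurj : ∀ Q : PrimeSpectrum C, Function.Surjective
        (Ideal.ResidueField.map (PrimeSpectrum.comap f Q).asIdeal Q.asIdeal f rfl) :=
      fun Q => (component_bijective_of_Nmap_bijective FieldEndo.ident f hN Q).2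
    refine ⟨(Groth.HTopHyper.specUnivHomeo_iff f).mpr ⟨hint, fun a ha => ?_, ?_⟩,
      (Groth.HTopHyper.residueFieldsIso_SpecMap_iff f).mpr fun q hq c => ?_⟩
    · rw [nilradical_eq_sInf, Submodule.mem_sInf]
      intro P hP
      obtain ⟨Q, hQ⟩ := hb.2 ⟨P, hP⟩
      rw [show P = Q.asIdeal.comap f from (congrArg PrimeSpectrum.asIdeal hQ).symm,
        Ideal.mem_comap, RingHom.mem_ker.mp ha]
      exact zero_mem _
    · intro K _ d₁ d₂ hd
      have hk : kerPt d₁ = kerPt d₂ := hb.1 (PrimeSpectrum.ext (by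
        show (RingHom.ker d₁).comap f = (RingHom.ker d₂).comap f
        rw [RingHom.comap_ker, RingHom.comap_ker, hd]))
      obtain ⟨φ₁, hφ₁⟩ := exists_lift (kerPt d₁) d₁ rfl
      obtain ⟨φ₂, hφ₂⟩ := exists_lift (kerPt d₁) d₂ (by rw [hk]; rfl)
      suffices φ₁ = φ₂ by rw [← hφ₁, this, hφ₂]
      refine RingHom.ext fun z => ?_
      obtain ⟨w, rfl⟩ := hsurj (kerPt d₁) z
      rw [← RingHom.comp_apply φ₁, ← RingHom.comp_apply φ₂]
      congr 1
      refine Ideal.ResidueField.ringHom_ext (RingHom.ext fun a => ?_)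
      simp only [RingHom.comp_apply]
      rw [show Ideal.ResidueField.map (PrimeSpectrum.comap f (kerPt d₁)).asIdeal (kerPt d₁).asIdeal f
        rfl (algebraMap A _ a) = res (kerPt d₁) (f a) from Ideal.ResidueField.map_algebraMap _ _ f rfl a,
        ← RingHom.comp_apply φ₁, hφ₁, ← RingHom.comp_apply φ₂, hφ₂]
      exact RingHom.congr_fun hd a
    · let Q : PrimeSpectrum C := ⟨q, hq⟩
      obtain ⟨w, hw⟩ := hsurj Q (res Q c)
      obtain ⟨a, s, hs, rfl⟩ := IsFractionRing.div_surjective (A ⧸ (PrimeSpectrum.comap f Q).asIdeal) w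
      obtain ⟨a, rfl⟩ := Ideal.Quotient.mk_surjective a
      obtain ⟨s, rfl⟩ := Ideal.Quotient.mk_surjective s
      have hs' : f s ∉ q := fun h0 =>
        nonZeroDivisors.ne_zero hs (Ideal.Quotient.eq_zero_iff_mem.mpr h0)
      refine ⟨a, s, hs', ?_⟩
      have hne : res Q (f s) ≠ 0 := fun h0 => hs' (Ideal.algebraMap_residueField_eq_zero.mp h0)
      rw [map_div₀, Ideal.algebraMap_quotient_residueField_mk,
        Ideal.algebraMap_quotient_residueField_mk,
        show Ideal.ResidueField.map (PrimeSpectrum.comap f Q).asIdeal Q.asIdeal f rfl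
          (algebraMap A _ a) = res Q (f a) from Ideal.ResidueField.map_algebraMap _ _ f rfl a,
        show Ideal.ResidueField.map (PrimeSpectrum.comap f Q).asIdeal Q.asIdeal f rfl
          (algebraMap A _ s) = res Q (f s) from Ideal.ResidueField.map_algebraMap _ _ f rfl s,
        div_eq_iff hne] at hw
      show f s * c - f a ∈ Q.asIdeal
      rw [← Ideal.algebraMap_residueField_eq_zero]
      show res Q (f s * c - f a) = 0
      rw [map_sub, map_mul, hw]
      ring

lemma ident_isRingSN (hA : (minimalPrimes A).Finite) :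
    HTop.IsRingSN ((FieldEndo.ident.{u}).q A) := by
  refine ⟨(ident_univHomeo_iff _).mpr ⟨q_isIntegral _ hA, Nmap_q_bijective _ hA⟩, ?_⟩
  intro C _ ψ h1 h2
  obtain ⟨hi, hN⟩ := (ident_univHomeo_iff ψ).mp ⟨h1, h2⟩
  exact existsUnique_lift _ hA ψ hi hN

lemma ident_relSeminormalization {B : Type u} [CommRing B] [Algebra A B]
    (hA : (minimalPrimes A).Finite)
    (hs : Function.Surjective (PrimeSpectrum.comap (algebraMap A B))) :
    (FlatMor.IsUnivHomeo (Spec.map (CommRingCat.ofHom ((FieldEndo.ident.{u}).qRel (algebraMap A B)))) ∧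
      HTop.ResidueFieldsIso (Spec.map (CommRingCat.ofHom ((FieldEndo.ident.{u}).qRel (algebraMap A B))))) ∧
    ∀ D : Subalgebra A B,
      FlatMor.IsUnivHomeo (Spec.map (CommRingCat.ofHom (algebraMap A D))) →
      HTop.ResidueFieldsIso (Spec.map (CommRingCat.ofHom (algebraMap A D))) →
      D.toSubring ≤ (FieldEndo.ident.{u}).rel (algebraMap A B) := by
  refine ⟨(ident_univHomeo_iff _).mpr ⟨qRel_isIntegral _ hA _ hs, Nmap_qRel_bijective _ hA _ hs⟩, ?_⟩
  intro D h1 h2
  obtain ⟨hi, hN⟩ := (ident_univHomeo_iff _).mp ⟨h1, h2⟩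
  have := range_le_rel FieldEndo.ident (algebraMap A D) D.val.toRingHom hi hN
  intro b hb
  exact this ⟨⟨b, hb⟩, rfl⟩

end Groth.EtaPt16
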