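import Groth.Agent.EtaPt16.Loc
import Groth.Prelude.Def_EGA4b

/-!
# Special rings: products, normal rings, valuation rings; consequences
-/

universe u

namespace Groth.EtaPt16

open EtaPt

variable (η : FieldEndo.{u})
variable {A B : Type u} [CommRing A] [CommRing B]

lemma bijOn_prod (A B : Type u) [CommRing A] [CommRing B] :
    Set.BijOn (fun x : η.N (A × B) => (η.Nmap (RingHom.fst A B) x, η.Nmap (RingHom.snd A B) x))
      (η.M (A × B)) ((η.M A : Set (η.N A)) ×ˢ (η.M B : Set (η.N B))) := by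
  refine ⟨fun x hx => ⟨Nmap_mem_M η _ hx, Nmap_mem_M η _ hx⟩, fun x _ y _ hxy => ?_, fun z hz => ?_⟩
  · obtain ⟨h1, h2⟩ := Prod.ext_iff.mp hxy
    funext p
    rcases ((Ideal.ideal_prod_prime p.asIdeal).mp p.2) with ⟨q, hq, hp⟩ | ⟨q, hq, hp⟩
    · obtain rfl : PrimeSpectrum.comap (RingHom.fst A B) ⟨q, hq⟩ = p :=
        PrimeSpectrum.ext (by rw [hp]; ext ⟨a, b⟩; simp [Ideal.mem_prod])
      exact component_eq_of_Nmap_eq η _ h1 _
    · obtain rfl : PrimeSpectrum.comap (RingHom.snd A B) ⟨q, hq⟩ = p :=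
        PrimeSpectrum.ext (by rw [hp]; ext ⟨a, b⟩; simp [Ideal.mem_prod])
      exact component_eq_of_Nmap_eq η _ h2 _
  · obtain ⟨hz1, hz2⟩ := hz
    have sf : (RingHom.fst A B).SurjectiveOnStalks :=
      RingHom.surjectiveOnStalks_of_surjective Prod.fst_surjective
    have ss : (RingHom.snd A B).SurjectiveOnStalks :=
      RingHom.surjectiveOnStalks_of_surjective Prod.snd_surjective
    obtain ⟨x1, hx1⟩ := Nmap_surjective η (RingHom.fst A B)
      (PrimeSpectrum.comap_injective_of_surjective _ Prod.fst_surjective)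
      (fun Q => (bijective_map_of_bijective η _ (sf.residueFieldMap_bijective _ _ rfl)).2) z.1
    obtain ⟨x2, hx2⟩ := Nmap_surjective η (RingHom.snd A B)
      (PrimeSpectrum.comap_injective_of_surjective _ Prod.snd_surjective)
      (fun Q => (bijective_map_of_bijective η _ (ss.residueFieldMap_bijective _ _ rfl)).2) z.2
    refine ⟨η.t _ (1, 0) * x1 + η.t _ (0, 1) * x2, ?_, ?_⟩
    · rw [SetLike.mem_coe, mem_M_iff]
      intro R _ _ _ hR g
      have h00 : g (1, 0) * g (0, 1) = 0 := by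
        rw [← map_mul, Prod.mk_mul_mk, mul_zero, zero_mul]; exact map_zero g
      rcases mul_eq_zero.mp h00 with h | h
      · obtain ⟨g', rfl⟩ : ∃ g' : B →+* R, g'.comp (RingHom.snd A B) = g := by
          refine ⟨RingHom.liftOfSurjective _ Prod.snd_surjective ⟨g, fun a ha => ?_⟩,
            RingHom.liftOfSurjective_comp _ Prod.snd_surjective ⟨g, _⟩⟩
          obtain ⟨a, b⟩ := a
          obtain rfl : b = 0 := ha
          rw [RingHom.mem_ker, show ((a, 0) : A × B) = (a, 0) * (1, 0) by simp, map_mul, h, mul_zero]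
        obtain ⟨r, hr⟩ := (mem_M_iff η).mp hz2 R hR g'
        refine ⟨r, fun K _ ψ => ?_⟩
        rw [← hr K ψ, ← hx2, ev_Nmap, map_add, map_mul, map_mul, ev_t, ev_t]
        simp [RingHom.comp_assoc]
      · obtain ⟨g', rfl⟩ : ∃ g' : A →+* R, g'.comp (RingHom.fst A B) = g := by
          refine ⟨RingHom.liftOfSurjective _ Prod.fst_surjective ⟨g, fun a ha => ?_⟩,
            RingHom.liftOfSurjective_comp _ Prod.fst_surjective ⟨g, _⟩⟩
          obtain ⟨a, b⟩ := a
          obtain rfl : a = 0 := ha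
          rw [RingHom.mem_ker, show ((0, b) : A × B) = (0, b) * (0, 1) by simp, map_mul, h, mul_zero]
        obtain ⟨r, hr⟩ := (mem_M_iff η).mp hz1 R hR g'
        refine ⟨r, fun K _ ψ => ?_⟩
        rw [← hr K ψ, ← hx1, ev_Nmap, map_add, map_mul, map_mul, ev_t, ev_t]
        simp [RingHom.comp_assoc]
    · refine Prod.ext ?_ ?_ <;> simp only [map_add, map_mul, η.Nmap_t_apply, hx1, hx2] <;> simp

/-- for a reduced ring in which the components at the minimal primes come from `A`, compare -/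
lemma q_surjective_of (x : η.M A) (a : A)
    (h : ∀ p : PrimeSpectrum A, p.asIdeal ∈ minimalPrimes A →
      (x : η.N A) p = η.eta _ (res p a)) : η.q A a = x :=
  sub_eq_zero.mp (eq_zero_of_evM η fun p hp => by
    rw [map_sub, sub_eq_zero]; exact (h p hp).symm)

lemma q_bijective_of_isIntegrallyClosed [IsDomain A] [IsIntegrallyClosed A] (hA : η.InV A) :
    Function.Bijective (η.q A) := by
  refine ⟨fun a b h => t_injective η (congrArg Subtype.val h), fun x => ?_⟩
  let p : PrimeSpectrum A := ⟨⊥, Ideal.isPrime_bot⟩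
  have hb : Function.Bijective (η.eta p.asIdeal.ResidueField) :=
    (inV_iff η A (⊥ : Ideal A).ResidueField).mp hA
  obtain ⟨c, hc⟩ := hb.2 ((x : η.N A) p)
  obtain ⟨P, hP, hPx⟩ := component_isIntegralElem η x.2 p
  obtain ⟨a, ha⟩ := IsIntegrallyClosed.isIntegral_iff.mp
    (show IsIntegral A c from ⟨P, hP, hb.1 (by rw [map_zero, Polynomial.hom_eval₂, hc]; exact hPx)⟩)
  refine ⟨a, q_surjective_of η x a fun q hq => ?_⟩
  obtain rfl : q = p := PrimeSpectrum.ext (by
    rw [IsDomain.minimalPrimes_eq_singleton_bot] at hq; exact hq)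
  rw [← hc, ← ha]

lemma ker_loc_eq_of_minimal (hn : EGA4.IsNormalRing A) {M : Ideal A} [M.IsPrime] {m : Ideal A}
    (hm : m ∈ minimalPrimes A) (hle : m ≤ M) :
    RingHom.ker (algebraMap A (Localization.AtPrime M)) = m := by
  haveI := (hn M).1
  haveI := hm.1.1
  have hk : RingHom.ker (algebraMap A (Localization.AtPrime M)) ≤ m := fun a ha => by
    obtain ⟨⟨s, hs⟩, hsa⟩ := (IsLocalization.map_eq_zero_iff M.primeCompl _ a).mp ha
    exact (hm.1.1.mem_or_mem (hsa ▸ zero_mem m : s * a ∈ m)).resolve_left fun h => hs (hle h)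
  exact hk.antisymm (hm.2 ⟨RingHom.ker_isPrime _, bot_le⟩ hk)

lemma minimalPrimes_isCoprime (hn : EGA4.IsNormalRing A) {m m' : Ideal A}
    (hm : m ∈ minimalPrimes A) (hm' : m' ∈ minimalPrimes A) (hne : m ≠ m') : IsCoprime m m' := by
  rw [Ideal.isCoprime_iff_sup_eq]
  by_contra h
  obtain ⟨M, hM, hle⟩ := Ideal.exists_le_maximal _ h
  exact hne ((ker_loc_eq_of_minimal hn hm (le_sup_left.trans hle)).symm.trans
    (ker_loc_eq_of_minimal hn hm' (le_sup_right.trans hle)))

/-- an element of `k(m)` integral over a normal ring comes from it -/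
lemma exists_of_isIntegral_normal (hn : EGA4.IsNormalRing A) (p : PrimeSpectrum A)
    (hp : p.asIdeal ∈ minimalPrimes A) (z : p.asIdeal.ResidueField)
    (hz : IsIntegral A z) : ∃ a, res p a = z := by
  let I : Ideal A := Submodule.comap (LinearMap.toSpanSingleton A p.asIdeal.ResidueField z)
    (LinearMap.range (Algebra.linearMap A p.asIdeal.ResidueField))
  suffices hI : I = ⊤ by
    have h1 : (1 : A) ∈ I := hI ▸ Submodule.mem_top
    obtain ⟨a, ha⟩ := h1
    exact ⟨a, by simpa using ha⟩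
  by_contra hI
  obtain ⟨M, hM, hle⟩ := Ideal.exists_le_maximal I hI
  by_cases hpM : p.asIdeal ≤ M
  swap
  · obtain ⟨s, hsp, hsM⟩ := SetLike.not_le_iff_exists.mp hpM
    refine hsM (hle ⟨0, ?_⟩)
    rw [map_zero, LinearMap.toSpanSingleton_apply, Algebra.smul_def,
      Ideal.algebraMap_residueField_eq_zero.mpr hsp, zero_mul]
  haveI := (hn M).1
  haveI := (hn M).2
  let AM := Localization.AtPrime M
  let lift : AM →+* p.asIdeal.ResidueField :=
    IsLocalization.lift (M := M.primeCompl) (g := algebraMap A p.asIdeal.ResidueField)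
      fun s => isUnit_iff_ne_zero.mpr fun h0 =>
        s.2 (hpM (Ideal.algebraMap_residueField_eq_zero.mp h0))
  letI : Algebra AM p.asIdeal.ResidueField := lift.toAlgebra
  haveI : IsScalarTower A AM p.asIdeal.ResidueField :=
    IsScalarTower.of_algebraMap_eq fun a => (IsLocalization.lift_eq _ a).symm
  have hinj : Function.Injective (algebraMap AM p.asIdeal.ResidueField) := by
    refine (injective_iff_map_eq_zero _).mpr fun x hx => ?_
    obtain ⟨a, s, rfl⟩ := IsLocalization.exists_mk'_eq M.primeCompl x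
    have h2 := congrArg (algebraMap AM p.asIdeal.ResidueField) (IsLocalization.mk'_spec AM a s)
    rw [map_mul, hx, zero_mul, ← IsScalarTower.algebraMap_apply, eq_comm,
      Ideal.algebraMap_residueField_eq_zero, ← ker_loc_eq_of_minimal hn hp hpM] at h2
    rw [IsLocalization.mk'_eq_zero_iff]
    exact (IsLocalization.map_eq_zero_iff M.primeCompl AM a).mp h2
  haveI : FaithfulSMul AM p.asIdeal.ResidueField := (faithfulSMul_iff_algebraMap_injective _ _).mpr hinj
  haveI : IsFractionRing AM p.asIdeal.ResidueField :=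
    .of_field AM _ fun w => by
      obtain ⟨x, y, hy, rfl⟩ := IsFractionRing.div_surjective (A ⧸ p.asIdeal) w
      obtain ⟨x, rfl⟩ := Ideal.Quotient.mk_surjective x
      obtain ⟨y, rfl⟩ := Ideal.Quotient.mk_surjective y
      exact ⟨algebraMap A AM x, algebraMap A AM y, by
        simp only [← IsScalarTower.algebraMap_apply, Ideal.algebraMap_quotient_residueField_mk]⟩
  obtain ⟨w, hw⟩ := IsIntegrallyClosed.isIntegral_iff.mp (hz.tower_top (A := AM))
  obtain ⟨a, s, rfl⟩ := IsLocalization.exists_mk'_eq M.primeCompl w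
  refine s.2 (hle ⟨a, ?_⟩)
  have h2 := congrArg (algebraMap AM p.asIdeal.ResidueField) (IsLocalization.mk'_spec AM a s)
  rw [map_mul, hw, ← IsScalarTower.algebraMap_apply, ← IsScalarTower.algebraMap_apply] at h2
  rw [LinearMap.toSpanSingleton_apply, Algebra.smul_def, Algebra.linearMap_apply, ← h2, mul_comm]

lemma q_bijective_of_isNormalRing (hn : EGA4.IsNormalRing A) (hA : (minimalPrimes A).Finite)
    (hη : ∀ p : PrimeSpectrum A, p.asIdeal ∈ minimalPrimes A →
      Function.Bijective (η.eta p.asIdeal.ResidueField)) : Function.Bijective (η.q A) := by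
  classical
  haveI : IsReduced A := isReduced_ofLocalizationMaximal A fun J _ => by
    haveI := (hn J).1
    infer_instance
  refine ⟨fun a b h => t_injective η (congrArg Subtype.val h), fun x => ?_⟩
  haveI := hA.fintype
  have key : ∀ m : minimalPrimes A, ∃ a, (x : η.N A) ⟨m.1, m.2.1.1⟩ = η.eta _ (res ⟨m.1, m.2.1.1⟩ a) := by
    intro m
    obtain ⟨c, hc⟩ := (hη ⟨m.1, m.2.1.1⟩ m.2).2 ((x : η.N A) ⟨m.1, m.2.1.1⟩)
    obtain ⟨P, hP, hPx⟩ := component_isIntegralElem η x.2 ⟨m.1, m.2.1.1⟩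
    obtain ⟨a, ha⟩ := exists_of_isIntegral_normal hn ⟨m.1, m.2.1.1⟩ m.2 c ⟨P, hP, (η.eta _).injective
      (by rw [map_zero, Polynomial.hom_eval₂, hc]; exact hPx)⟩
    exact ⟨a, by rw [ha, hc]⟩
  choose a ha using key
  obtain ⟨b, hb⟩ := Ideal.exists_forall_sub_mem_ideal (I := fun m : minimalPrimes A => m.1)
    (fun i j hij => minimalPrimes_isCoprime hn i.2 j.2 fun h => hij (Subtype.ext h)) a
  refine ⟨b, q_surjective_of η x b fun p hp => ?_⟩
  rw [show (x : η.N A) p = η.eta _ (res p (a ⟨p.asIdeal, hp⟩)) from ha ⟨p.asIdeal, hp⟩]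
  congr 1
  rw [eq_comm, ← sub_eq_zero, ← map_sub]
  exact Ideal.algebraMap_residueField_eq_zero.mpr (hb ⟨p.asIdeal, hp⟩)

section ValuationRing

variable {R : Type u} [CommRing R] [IsDomain R] [ValuationRing R]

/-- hypothesis of the valuation ring statements -/
abbrev ValHyp (η : FieldEndo.{u}) (R : Type u) [CommRing R] [IsDomain R] : Prop :=
  η.InV R ∨ ∀ (k : Type u) [Field k], ringChar k = ringChar R →
    Function.Bijective (η.eta k) → PerfectField k

lemma finite_minimalPrimes_domain (R : Type u) [CommRing R] [IsDomain R] :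
    (minimalPrimes R).Finite := by
  rw [IsDomain.minimalPrimes_eq_singleton_bot]; exact Set.finite_singleton _

lemma exists_of_integral_generic (hη : ValHyp η R) (y : η.obj (⊥ : Ideal R).ResidueField)
    (hy : ((η.eta (⊥ : Ideal R).ResidueField).comp
      (algebraMap R (⊥ : Ideal R).ResidueField)).IsIntegralElem y) :
    ∃ x ∈ η.M R, x ⟨⊥, Ideal.isPrime_bot⟩ = y := by
  let K := (⊥ : Ideal R).ResidueField
  obtain ⟨P, hP, hPy⟩ := hy
  have int : ∀ c : K, IsIntegral R c → ∃ r, algebraMap R K r = c := fun c hc =>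
    IsIntegrallyClosed.isIntegral_iff.mp hc
  by_cases hK : Function.Bijective (η.eta K)
  · obtain ⟨c, rfl⟩ := hK.2 y
    obtain ⟨r, rfl⟩ := int c ⟨P, hP, hK.1 (by rw [map_zero, Polynomial.hom_eval₂]; exact hPy)⟩
    exact ⟨η.t R r, η.t_mem_M R r, rfl⟩
  have hperf := hη.resolve_left fun h => hK ((inV_iff η R K).mp h)
  obtain ⟨n, c, hc⟩ := η.exists_pow_mem_range_eta K y
  rcases CharP.char_is_prime_or_zero R (ringChar R) with hp | hp
  swap
  · exfalso
    haveI : CharP R 0 := hp ▸ ringChar.charP R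
    haveI : CharZero R := CharP.charP_to_charZero R
    haveI : CharZero K := charZero_of_injective_algebraMap (IsFractionRing.injective R K)
    haveI : PerfectField K := inferInstance
    exact hK (bijective_eta_of_perfectField η K)
  set p := ringChar R
  haveI := Fact.mk hp
  haveI : CharP K p := charP_of_injective_algebraMap (IsFractionRing.injective R K) p
  have he : ringExpChar K = p := ringExpChar.eq K p
  rw [he] at hc
  have hq : p ^ n ≠ 0 := pow_ne_zero n hp.ne_zero
  have hyI : IsIntegral R c := by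
    letI : Algebra R (η.obj K) := ((η.eta K).comp (algebraMap R K)).toAlgebra
    have hy' : IsIntegral R y := ⟨P, hP, hPy⟩
    let f : K →ₐ[R] η.obj K := { η.eta K with commutes' := fun _ => rfl }
    refine (isIntegral_algHom_iff f (η.eta K).injective).mp ?_
    show IsIntegral R (η.eta K c)
    rw [hc]; exact hy'.pow _
  obtain ⟨r, rfl⟩ := int c hyI
  have hroot : ∀ P' : PrimeSpectrum R, ∃ z : η.obj P'.asIdeal.ResidueField,
      z ^ p ^ n = η.eta _ (res P' r) := by
    intro P'
    haveI : CharP P'.asIdeal.ResidueField p := (CharP.charP_iff_prime_eq_zero hp).mpr (by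
      rw [← map_natCast (algebraMap R P'.asIdeal.ResidueField), CharP.cast_eq_zero, map_zero])
    haveI : CharP (η.obj P'.asIdeal.ResidueField) p :=
      charP_of_injective_ringHom (η.eta _).injective p
    haveI := hperf (η.obj P'.asIdeal.ResidueField) (ringChar.eq _ p) (bijective_eta_obj η _)
    haveI : PerfectRing (η.obj P'.asIdeal.ResidueField) p := PerfectField.toPerfectRing p
    obtain ⟨z, hz⟩ := (bijective_iterateFrobenius _ p n).2 (η.eta _ (res P' r))
    exact ⟨z, by rw [← hz, iterateFrobenius_def]⟩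
  choose x hx using hroot
  have hxt : x ^ p ^ n = η.t R r := funext fun P' => hx P'
  refine ⟨x, ?_, ?_⟩
  · rw [mem_M_iff]
    intro R' _ _ _ hR' g
    obtain ⟨c', hc'⟩ := hR'.2 (ev η ((algebraMap R' (FractionRing R')).comp g) x)
    have hc'q : c' ^ p ^ n = algebraMap R' (FractionRing R') (g r) := hR'.1 <| by
      rw [map_pow, hc', ← map_pow, hxt, ev_t]; rfl
    obtain ⟨r', hr'⟩ := IsIntegrallyClosed.isIntegral_iff.mp
      (show IsIntegral R' c' from IsIntegral.of_pow (Nat.pos_of_ne_zero hq)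
        (hc'q ▸ isIntegral_algebraMap))
    have hr'q : r' ^ p ^ n = g r := IsFractionRing.injective R' (FractionRing R') (by
      rw [map_pow, hr', hc'q])
    refine ⟨r', fun L _ ψ => ?_⟩
    haveI : CharP L p := (CharP.charP_iff_prime_eq_zero hp).mpr (by
      rw [← map_natCast (ψ.comp g), CharP.cast_eq_zero, map_zero])
    haveI : CharP (η.obj L) p := charP_of_injective_ringHom (η.eta _).injective p
    apply iterateFrobenius_inj (η.obj L) p n
    simp only [iterateFrobenius_def, ← map_pow, hxt, ev_t, hr'q]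
    rfl
  · haveI : CharP (η.obj K) p := charP_of_injective_ringHom (η.eta _).injective p
    apply iterateFrobenius_inj (η.obj K) p n
    simp only [iterateFrobenius_def]
    rw [hx, ← hc]

lemma valuation_image (hη : ValHyp η R) :
    Set.InjOn (fun x : η.N R => x ⟨⊥, Ideal.isPrime_bot⟩) (η.M R) ∧
      (fun x : η.N R => x ⟨⊥, Ideal.isPrime_bot⟩) '' (η.M R : Set (η.N R)) =
        {y | ((η.eta (⊥ : Ideal R).ResidueField).comp
          (algebraMap R (⊥ : Ideal R).ResidueField)).IsIntegralElem y} := by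
  refine ⟨injOn_generic η, Set.ext fun y => ⟨?_, fun hy => ?_⟩⟩
  · rintro ⟨x, hx, rfl⟩
    exact component_isIntegralElem η hx ⟨⊥, Ideal.isPrime_bot⟩
  · obtain ⟨x, hx, rfl⟩ := exists_of_integral_generic η hη y hy
    exact ⟨x, hx, rfl⟩

lemma integral_or_inv (y : η.obj (⊥ : Ideal R).ResidueField) :
    ((η.eta (⊥ : Ideal R).ResidueField).comp
      (algebraMap R (⊥ : Ideal R).ResidueField)).IsIntegralElem y ∨
    ((η.eta (⊥ : Ideal R).ResidueField).comp
      (algebraMap R (⊥ : Ideal R).ResidueField)).IsIntegralElem y⁻¹ := by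
  let K := (⊥ : Ideal R).ResidueField
  obtain ⟨n, c, hc⟩ := η.exists_pow_mem_range_eta K y
  have hq : 0 < ringExpChar K ^ n := pow_pos (lt_of_lt_of_le Nat.one_pos (le_max_right _ _)) _
  have key : ∀ (z : η.obj K) (c : K), η.eta K c = z ^ ringExpChar K ^ n →
      IsLocalization.IsInteger R c → ((η.eta K).comp (algebraMap R K)).IsIntegralElem z := by
    intro z c hc ⟨r, hr⟩
    refine ⟨Polynomial.X ^ ringExpChar K ^ n - Polynomial.C r,
      Polynomial.monic_X_pow_sub_C r hq.ne', ?_⟩
    simp [← hc, hr]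
  rcases ValuationRing.isInteger_or_isInteger R c with h | h
  · exact Or.inl (key y c hc h)
  · exact Or.inr (key y⁻¹ c⁻¹ (by rw [map_inv₀, inv_pow, hc]) h)

lemma valuation_M (hη : ValHyp η R) :
    IsDomain (η.M R) ∧ PreValuationRing (η.M R) ∧
      (∀ y : η.obj (⊥ : Ideal R).ResidueField, ∃ a b : η.M R,
        (b : η.N R) ⟨⊥, Ideal.isPrime_bot⟩ ≠ 0 ∧
          y * (b : η.N R) ⟨⊥, Ideal.isPrime_bot⟩ = (a : η.N R) ⟨⊥, Ideal.isPrime_bot⟩) ∧
      (fun x : η.N R => x ⟨⊥, Ideal.isPrime_bot⟩) '' (η.M R : Set (η.N R)) ∩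
          Set.range (η.eta (⊥ : Ideal R).ResidueField) =
        Set.range ((η.eta (⊥ : Ideal R).ResidueField).comp
          (algebraMap R (⊥ : Ideal R).ResidueField)) := by
  let e := evM η (⟨⊥, Ideal.isPrime_bot⟩ : PrimeSpectrum R)
  have hinj : Function.Injective e := fun a b h => Subtype.ext (injOn_generic η a.2 b.2 h)
  have mk : ∀ y, ((η.eta (⊥ : Ideal R).ResidueField).comp
      (algebraMap R (⊥ : Ideal R).ResidueField)).IsIntegralElem y → ∃ a, e a = y := fun y hy => by
    obtain ⟨x, hx, hxy⟩ := exists_of_integral_generic η hη y hy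
    exact ⟨⟨x, hx⟩, hxy⟩
  refine ⟨hinj.isDomain e, ⟨fun a b => ?_⟩, fun y => ?_, ?_⟩
  · by_cases hb : e b = 0
    · exact ⟨0, Or.inl (hinj (by rw [map_mul, map_zero, mul_zero, hb]))⟩
    by_cases ha : e a = 0
    · exact ⟨0, Or.inr (hinj (by rw [map_mul, map_zero, mul_zero, ha]))⟩
    rcases integral_or_inv η (e b / e a) with h | h <;> obtain ⟨c, hc⟩ := mk _ h
    · exact ⟨c, Or.inl (hinj (by rw [map_mul, hc, mul_div_cancel₀ _ ha]))⟩
    · exact ⟨c, Or.inr (hinj (by rw [map_mul, hc, inv_div, mul_div_cancel₀ _ hb]))⟩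
  · rcases integral_or_inv η y with h | h <;> obtain ⟨c, hc⟩ := mk _ h
    · exact ⟨c, 1, one_ne_zero, (mul_one y).trans hc.symm⟩
    · by_cases hy : y = 0
      · exact ⟨0, 1, one_ne_zero, by rw [hy, zero_mul]; rfl⟩
      refine ⟨1, c, ?_, ?_⟩
      · show e c ≠ 0
        rw [hc]; exact inv_ne_zero hy
      · show y * e c = e 1
        rw [hc, map_one, mul_inv_cancel₀ hy]
  · refine Set.ext fun y => ⟨?_, ?_⟩
    · rintro ⟨⟨x, hx, rfl⟩, c, hc⟩
      obtain ⟨P, hP, hPx⟩ := component_isIntegralElem η hx ⟨⊥, Ideal.isPrime_bot⟩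
      obtain ⟨r, hr⟩ := IsIntegrallyClosed.isIntegral_iff.mp
        (show IsIntegral R c from ⟨P, hP, (η.eta _).injective (by
          rw [map_zero, Polynomial.hom_eval₂, hc]; exact hPx)⟩)
      exact ⟨r, by rw [RingHom.comp_apply, hr, hc]⟩
    · rintro ⟨r, rfl⟩
      exact ⟨⟨η.t R r, η.t_mem_M R r, rfl⟩, _, rfl⟩

end ValuationRing

lemma qRel_away (hA : (minimalPrimes A).Finite) (φ : A →+* B)
    (h : Function.Bijective (η.qRel φ)) (f : A) :
    Function.Bijective (η.qRel (Localization.awayMap φ f)) := by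
  rw [qRel_bijective_iff] at h ⊢
  refine ⟨?_, fun y hy => ?_⟩
  · refine (injective_iff_map_eq_zero _).mpr fun w hw => ?_
    obtain ⟨a, ⟨_, n, rfl⟩, rfl⟩ := IsLocalization.exists_mk'_eq (Submonoid.powers f) w
    rw [Localization.awayMap, IsLocalization.Away.map, IsLocalization.map_mk',
      IsLocalization.mk'_eq_zero_iff] at hw
    obtain ⟨⟨_, m, rfl⟩, hm⟩ := hw
    rw [IsLocalization.mk'_eq_zero_iff]
    exact ⟨⟨f ^ m, m, rfl⟩, h.1 (by simpa using hm)⟩
  · obtain ⟨x, hx, n, hn⟩ := (rel_loc η f hA φ).2 y hy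
    obtain ⟨a, rfl⟩ := h.2 x hx
    refine ⟨IsLocalization.mk' _ a (⟨f ^ n, n, rfl⟩ : Submonoid.powers f), ?_⟩
    rw [Localization.awayMap, IsLocalization.Away.map, IsLocalization.map_mk',
      IsLocalization.mk'_eq_iff_eq_mul]
    simp only [map_pow]
    exact hn.symm

lemma qRel_of_span (hA : (minimalPrimes A).Finite) (φ : A →+* B)
    (s : Finset A) (hspan : Ideal.span (s : Set A) = ⊤)
    (h : ∀ f ∈ s, Function.Bijective (η.qRel (Localization.awayMap φ f))) :
    Function.Bijective (η.qRel φ) := by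
  simp only [qRel_bijective_iff] at h ⊢
  have comm : ∀ (f a : A), Localization.awayMap φ f (algebraMap A _ a) = algebraMap B _ (φ a) :=
    fun f a => IsLocalization.map_eq _ a
  refine ⟨(injective_iff_map_eq_zero _).mpr fun a ha => ?_, fun b hb => ?_⟩
  · let I : Ideal A := Submodule.comap (LinearMap.toSpanSingleton A A a) ⊥
    suffices hI : I = ⊤ by
      have h1 : (1 : A) ∈ I := hI ▸ Submodule.mem_top
      simpa [I] using h1
    rw [← Ideal.radical_eq_top, eq_top_iff, ← hspan, Ideal.span_le]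
    intro f hf
    have h0 : Localization.awayMap φ f (algebraMap A _ a) = 0 := by rw [comm, ha, map_zero]
    obtain ⟨⟨_, n, rfl⟩, hn⟩ := (IsLocalization.map_eq_zero_iff (Submonoid.powers f) _ a).mp
      ((map_eq_zero_iff _ (h f hf).1).mp h0)
    exact ⟨n, show f ^ n • a ∈ (⊥ : Submodule A A) from hn⟩
  · letI : Algebra A B := φ.toAlgebra
    suffices hI : Submodule.comap (LinearMap.toSpanSingleton A B b)
        (LinearMap.range (Algebra.linearMap A B)) = ⊤ by
      have h1 : (1 : A) ∈ Submodule.comap (LinearMap.toSpanSingleton A B b)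
          (LinearMap.range (Algebra.linearMap A B)) := hI ▸ Submodule.mem_top
      obtain ⟨a, ha⟩ := h1
      exact ⟨a, (show φ a = _ from ha).trans (one_smul A b)⟩
    rw [← Ideal.radical_eq_top, eq_top_iff, ← hspan, Ideal.span_le]
    intro f hf
    obtain ⟨w, hw⟩ := (h f hf).2 _ ((rel_loc η f hA φ).1 ⟨b, hb, rfl⟩)
    obtain ⟨n, a, rfl⟩ : ∃ (n : ℕ) (a : A),
        IsLocalization.mk' (Localization.Away f) a (⟨f ^ n, n, rfl⟩ : Submonoid.powers f) = w := by
      obtain ⟨a, ⟨_, n, rfl⟩, rfl⟩ := IsLocalization.exists_mk'_eq (Submonoid.powers f) w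
      exact ⟨n, a, rfl⟩
    rw [Localization.awayMap, IsLocalization.Away.map, IsLocalization.map_mk',
      IsLocalization.mk'_eq_iff_eq_mul, ← map_mul] at hw
    obtain ⟨⟨_, m, rfl⟩, hm⟩ := (IsLocalization.eq_iff_exists (Submonoid.powers (φ f)) _).mp hw
    refine ⟨m + n, f ^ m * a, ?_⟩
    rw [LinearMap.toSpanSingleton_apply, Algebra.smul_def, Algebra.linearMap_apply,
      show (algebraMap A B) = φ from rfl, map_mul, map_pow, map_pow]
    simp only [map_pow] at hm
    rw [hm, pow_add]; ring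

lemma Mmap_iff (hA : (minimalPrimes A).Finite) (hB : (minimalPrimes B).Finite) (f : A →+* B)
    (g : η.M A →+* η.M B) (hg : ∀ x : η.M A, ((g x : η.M B) : η.N B) = η.Nmap f (x : η.N A)) :
    (f.IsIntegral ↔ g.IsIntegral) ∧
      (Function.Surjective (PrimeSpectrum.comap f) ↔ Function.Surjective (PrimeSpectrum.comap g)) := by
  have hc : g.comp (η.q A) = (η.q B).comp f := RingHom.ext fun a => Subtype.ext <| by
    show ((g (η.q A a) : η.M B) : η.N B) = _
    rw [hg, coe_q, η.Nmap_t_apply]; rfl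
  refine ⟨⟨fun hf => ?_, fun hg' b => ?_⟩, ?_⟩
  · exact RingHom.IsIntegral.tower_top _ _ (hc ▸ (hf.trans f (η.q B) (q_isIntegral η hB)))
  · obtain ⟨P, hP, hPb⟩ := ((q_isIntegral η hA).trans _ g hg') (η.q B b)
    rw [hc, ← Polynomial.hom_eval₂] at hPb
    have h0 : η.t B (Polynomial.eval₂ f b P) = 0 := congrArg Subtype.val hPb
    obtain ⟨n, hn⟩ := (t_eq_zero_iff η _).mp h0
    exact ⟨P ^ n, hP.pow n, by rw [Polynomial.eval₂_pow, hn]⟩
  · have := congrArg PrimeSpectrum.comap hc
    rw [PrimeSpectrum.comap_comp, PrimeSpectrum.comap_comp] at this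
    rw [← Function.Surjective.of_comp_iff' (comap_q_bijective η hA),
      ← Function.Surjective.of_comp_iff _ (comap_q_bijective η hB).2]
    rw [← this]

lemma Mmap_bij (hA : (minimalPrimes A).Finite) (hB : (minimalPrimes B).Finite) (f : A →+* B)
    (g : η.M A →+* η.M B) (hg : ∀ x : η.M A, ((g x : η.M B) : η.N B) = η.Nmap f (x : η.N A))
    (hbij : Function.Bijective g) : Function.Bijective (η.Nmap f) := by
  have hc : g.comp (η.q A) = (η.q B).comp f := RingHom.ext fun a => Subtype.ext <| by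
    show ((g (η.q A a) : η.M B) : η.N B) = _
    rw [hg, coe_q, η.Nmap_t_apply]; rfl
  have := (Nmap_equiv_bijective η g hbij).comp (Nmap_q_bijective η hA)
  rw [← RingHom.coe_comp, ← Nmap_comp, hc, Nmap_comp, RingHom.coe_comp] at this
  exact (Function.Bijective.of_comp_iff' (Nmap_q_bijective η hB) _).mp this

end Groth.EtaPt16
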